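import Cfsg.Prelude.Def_CaseTheorems
import Cfsg.Agent.Lib.Solv.Cores
import Cfsg.Agent.Lib.Fusion.Cores
import Cfsg.Agent.Lib.Char.Burnside
import Cfsg.Agent.Lib.SSF.HU

/-!
Groups whose `p'`-subgroups are abelian of exponent dividing `p - 1`: inheritance and the
reduction to a minimal simple group.
-/

set_option autoImplicit false
set_option linter.style.haveILetI false

namespace Cfsg.Agent.PPrimeAbelian

universe u

/-- Every `p'`-subgroup is abelian of exponent dividing `p - 1`. -/
def Hp (p : ℕ) (G : Type u) [Group G] : Prop :=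
  ∀ H : Subgroup G, (Nat.card ↥H).Coprime p → IsMulCommutative ↥H ∧ ∀ x ∈ H, x ^ (p - 1) = 1

/-- A minimal simple group of this kind. -/
structure Crit (p : ℕ) (G : Type u) [Group G] : Prop where
  hp : Hp p G
  ms : Cfsg.IsMinimalSimple G

variable {G : Type u} [Group G] {p : ℕ} [hpf : Fact p.Prime]

omit hpf in
theorem Hp.subgroup (h : Hp p G) (K : Subgroup G) : Hp p ↥K := by
  intro H hH
  obtain ⟨hc, hx⟩ := h (H.map K.subtype) (by
    rwa [Subgroup.card_map_of_injective K.subtype_injective])
  refine ⟨⟨⟨fun a b => ?_⟩⟩, fun x hxH => Subtype.ext (by simpa using hx x ⟨x, hxH, rfl⟩)⟩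
  have := hc.is_comm.comm (⟨(a : ↥K), ⟨a, a.2, rfl⟩⟩ : H.map K.subtype) ⟨(b : ↥K), ⟨b, b.2, rfl⟩⟩
  exact Subtype.ext (Subtype.ext (congrArg Subtype.val this :))

omit hpf in
theorem Hp.image {Q : Type u} [Group Q] (h : Hp p G) (f : G →* Q) {C : Subgroup G}
    (hC : (Nat.card C).Coprime p) :
    IsMulCommutative ↥(C.map f) ∧ ∀ x ∈ C.map f, x ^ (p - 1) = 1 := by
  obtain ⟨hc, hx⟩ := h C hC
  refine ⟨⟨⟨?_⟩⟩, ?_⟩
  · rintro ⟨_, a, ha, rfl⟩ ⟨_, b, hb, rfl⟩
    have := hc.is_comm.comm (⟨a, ha⟩ : C) ⟨b, hb⟩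
    exact Subtype.ext (by
      show f a * f b = f b * f a
      rw [← map_mul, ← map_mul]
      exact congrArg f (congrArg Subtype.val this :))
  · rintro _ ⟨a, ha, rfl⟩
    rw [← map_pow, hx a ha, map_one]

theorem Hp.quotient [Finite G] (h : Hp p G) (N : Subgroup G) [N.Normal]
    (hN : IsPGroup p N ∨ (Nat.card N).Coprime p) : Hp p (G ⧸ N) := by
  intro K hK
  set π := QuotientGroup.mk' N
  set Y := K.comap π with hY
  have hsurj : Function.Surjective π := QuotientGroup.mk'_surjective N
  have hYK : Y.map π = K := Subgroup.map_comap_eq_self_of_surjective hsurj K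
  have hNY : N ≤ Y := fun n hn => by
    show π n ∈ K
    rw [show π n = 1 from (QuotientGroup.eq_one_iff n).2 hn]
    exact one_mem K
  have hidx : N.relIndex Y = Nat.card K := by
    have := Subgroup.relIndex_ker (K := Y) π
    rwa [QuotientGroup.ker_mk', hYK] at this
  have hcard : Nat.card Y = Nat.card N * Nat.card K := by
    rw [← hidx, ← Subgroup.relIndex_bot_left, ← Subgroup.relIndex_bot_left,
      Subgroup.relIndex_mul_relIndex ⊥ N Y bot_le hNY]
  rcases hN with hN | hN
  · haveI : (N.subgroupOf Y).Normal := Subgroup.normal_subgroupOf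
    have hNc : Nat.card (N.subgroupOf Y) = Nat.card N :=
      Nat.card_congr (Subgroup.subgroupOfEquivOfLe hNY).toEquiv
    have hco : (Nat.card (N.subgroupOf Y)).Coprime (N.subgroupOf Y).index := by
      obtain ⟨k, hk⟩ := IsPGroup.iff_card.1 hN
      rw [hNc, hk, ← Subgroup.relIndex, hidx]
      exact (hK.symm).pow_left k
    obtain ⟨C, hC⟩ := Subgroup.exists_right_complement'_of_coprime hco
    have hCc : Nat.card C = Nat.card K := by
      rw [← hC.symm.index_eq_card, ← Subgroup.relIndex, hidx]
    have hC' : (Nat.card (C.map Y.subtype)).Coprime p := by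
      rw [Subgroup.card_map_of_injective Y.subtype_injective, hCc]; exact hK
    have himg : (C.map Y.subtype).map π = K := by
      rw [← hYK]
      refine le_antisymm (Subgroup.map_mono (Subgroup.map_subtype_le C)) ?_
      rintro _ ⟨y, hy, rfl⟩
      have : (⟨y, hy⟩ : Y) ∈ N.subgroupOf Y ⊔ C := hC.sup_eq_top ▸ Subgroup.mem_top _
      obtain ⟨n, hn, c, hc, he⟩ := Subgroup.mem_sup_of_normal_left.1 this
      refine ⟨c, ⟨c, hc, rfl⟩, ?_⟩
      rw [show y = (n : G) * (c : G) from (congrArg Subtype.val he).symm, map_mul,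
        show π (n : G) = 1 from (QuotientGroup.eq_one_iff _).2 hn, one_mul]
    exact himg ▸ h.image π hC'
  · exact hYK ▸ h.image π (C := Y) (by rw [hcard]; exact Nat.Coprime.mul_left hN hK)

/-- A solvable group of exponent data forces small primes. -/
theorem five_le_of_not_solvable [Finite G] (h : Hp p G) (hns : ¬ Group.IsSolvable G) : 5 ≤ p := by
  have hp := hpf.out
  have key : ∀ r : ℕ, r.Prime → r ∣ Nat.card G → r = p ∨ r ∣ p - 1 := fun r hr hd => by
    by_cases he : r = p
    · exact Or.inl he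
    haveI := Fact.mk hr
    obtain ⟨x, hx⟩ := exists_prime_orderOf_dvd_card' r hd
    have hco : (Nat.card (Subgroup.zpowers x)).Coprime p := by
      rw [Nat.card_zpowers, hx]; exact (Nat.coprime_primes hr hp).2 he
    exact Or.inr (hx ▸ orderOf_dvd_of_pow_eq_one
      ((h _ hco).2 x (Subgroup.mem_zpowers x)))
  by_contra hlt
  push Not at hlt
  refine hns (Char.isSolvable_of_two_primes Nat.prime_two Nat.prime_three _ rfl fun r hr hd => ?_)
  have h2 := hp.two_le
  rcases key r hr hd with rfl | hr1
  · interval_cases r <;> first | exact Or.inl rfl | exact Or.inr rfl | exact absurd hp (by norm_num)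
  · have := Nat.le_of_dvd (by omega) hr1
    have h2r := hr.two_le
    have h3r : r ≤ 3 := by omega
    interval_cases r <;> first | exact Or.inl rfl | exact Or.inr rfl

/-- Reduction to a minimal simple group. -/
theorem solvable_of_no_crit
    (hno : ∀ (X : Type u) [Group X] [Finite X], ¬ Crit p X) :
    ∀ (n : ℕ) (G : Type u) [Group G] [Finite G], Nat.card G = n → Hp p G → Group.IsSolvable G := by
  intro n
  induction n using Nat.strong_induction_on with
  | _ n ih =>
    intro G _ _ hn h
    by_contra hns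
    have hsub : ∀ H : Subgroup G, H ≠ ⊤ → Group.IsSolvable H := fun H hH =>
      ih _ (hn ▸ lt_of_le_of_ne (Subgroup.card_le_card_group H) fun he =>
        hH (Subgroup.eq_top_of_card_eq H he)) ↥H rfl (h.subgroup H)
    haveI : Nontrivial G := by
      by_contra hnt
      rw [not_nontrivial_iff_subsingleton] at hnt
      exact hns inferInstance
    have hnc : ¬ IsMulCommutative G := fun hc => hns (Group.isSolvable_of_comm hc.is_comm.comm)
    by_cases hs : IsSimpleGroup G
    · exact hno G ⟨h, hs, hnc, hsub⟩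
    obtain ⟨N, hNn, hNb, hNt⟩ : ∃ N : Subgroup G, N.Normal ∧ N ≠ ⊥ ∧ N ≠ ⊤ := by
      by_contra hne
      push Not at hne
      exact hs ⟨fun N hN => or_iff_not_imp_left.2 fun h1 => hne N hN h1⟩
    haveI := hsub N hNt
    haveI : Nontrivial N := (Subgroup.nontrivial_iff_ne_bot N).2 hNb
    obtain ⟨q, hq⟩ : ∃ q : Nat.Primes, Cfsg.pCore (q : ℕ) N ≠ ⊥ := by
      by_contra hne
      push Not at hne
      refine Solv.fitting_ne_bot (G := N) inferInstance ?_
      rw [Solv.fitting_eq_iSup_pCore]
      exact iSup_eq_bot.2 hne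
    haveI := Fact.mk q.2
    set M := (Cfsg.pCore (q : ℕ) N).map N.subtype with hM
    haveI : M.Normal := Solv.map_subtype_normal_of_characteristic N _
    have hMp : IsPGroup (q : ℕ) M := (Fusion.isPGroup_pCore _ N).map _
    have hMb : M ≠ ⊥ := by
      rw [hM, Ne, Subgroup.map_eq_bot_iff_of_injective _ N.subtype_injective]; exact hq
    have hMd : IsPGroup p M ∨ (Nat.card M).Coprime p := by
      obtain ⟨k, hk⟩ := IsPGroup.iff_card.1 hMp
      by_cases he : (q : ℕ) = p
      · exact Or.inl (IsPGroup.iff_card.2 ⟨k, he ▸ hk⟩)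
      · exact Or.inr (hk ▸ ((Nat.coprime_primes q.2 hpf.out).2 he).pow_left k)
    haveI : Group.IsSolvable M := by
      haveI := hMp.isNilpotent
      infer_instance
    haveI : Group.IsSolvable (G ⧸ M) := ih _ (by
      rw [← hn, M.card_eq_card_quotient_mul_card_subgroup]
      exact lt_mul_of_one_lt_right Nat.card_pos
        ((Subgroup.one_lt_card_iff_ne_bot M).2 hMb)) _ rfl (h.quotient M hMd)
    exact hns (Group.isSolvable_of_ker_le_range M.subtype (QuotientGroup.mk' M)
      (by rw [QuotientGroup.ker_mk', Subgroup.range_subtype]))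

end Cfsg.Agent.PPrimeAbelian
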