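import Cfsg.Agent.Lib.Lead.PPrimeAbelian.Local
import Cfsg.Agent.Lib.Fusion.BurnsideFusion
import Cfsg.Agent.Lib.Fusion.ZJControl
import Cfsg.Agent.S0118

/-!
Counting elements of a minimal counterexample.
-/

set_option autoImplicit false
set_option linter.style.haveILetI false

namespace Cfsg.Agent.PPrimeAbelian

open Cfsg.Agent.Fusion (SylIn cj)
open scoped commutatorElement

universe u

variable {G : Type u} [Group G] [Finite G] {p : ℕ} [hpf : Fact p.Prime]

theorem sl2_not_solvable {q : ℕ} [Fact q.Prime] (h5 : 5 ≤ q) :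
    ¬ Group.IsSolvable (Matrix.SpecialLinearGroup (Fin 2) (ZMod q)) := by
  intro h
  haveI := h
  have h2 : ((2 : ℕ) : ZMod q) ≠ 0 := fun h0 => by
    have := Nat.le_of_dvd (by norm_num) ((ZMod.natCast_eq_zero_iff 2 q).1 h0)
    omega
  have h3 : ((3 : ℕ) : ZMod q) ≠ 0 := fun h0 => by
    have := Nat.le_of_dvd (by norm_num) ((ZMod.natCast_eq_zero_iff 3 q).1 h0)
    omega
  have htop := Matrix.SL2.commutator_eq_top (a := (2 : ZMod q)) (by exact_mod_cast h2) (fun h4 => h3 (by
    have : (2 : ZMod q) ^ 2 - 1 = 0 := sub_eq_zero.2 h4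
    push_cast
    linear_combination this))
  haveI : Nontrivial (Matrix.SpecialLinearGroup (Fin 2) (ZMod q)) := by
    refine ⟨⟨⟨!![1, 1; 0, 1], by simp [Matrix.det_fin_two]⟩, 1, fun he => ?_⟩⟩
    have := congrArg (fun M : Matrix.SpecialLinearGroup (Fin 2) (ZMod q) =>
      (M : Matrix (Fin 2) (Fin 2) (ZMod q)) 0 1) he
    simp at this
  exact (Group.IsSolvable.commutator_lt_top_of_nontrivial
    (Matrix.SpecialLinearGroup (Fin 2) (ZMod q))).ne htop

/-- No section is `SL(2,p)`. -/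
theorem Crit.sl2_free (c : Crit p G) :
    ¬ ∃ (H K : Subgroup G) (hK : (K.subgroupOf H).Normal),
      Nonempty ((H ⧸ K.subgroupOf H) ≃* Matrix.SpecialLinearGroup (Fin 2) (ZMod p)) := by
  rintro ⟨H, K, hK, ⟨e⟩⟩
  haveI := hK
  have h5 := c.five_le
  by_cases hH : H = ⊤
  swap
  · haveI := c.sub_solvable hH
    haveI : Group.IsSolvable (H ⧸ K.subgroupOf H) :=
      Group.isSolvable_of_surjective (QuotientGroup.mk'_surjective _)
    exact sl2_not_solvable h5 (Group.isSolvable_of_surjective (f := e.toMonoidHom) e.surjective)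
  subst hH
  let f : G →* Matrix.SpecialLinearGroup (Fin 2) (ZMod p) :=
    e.toMonoidHom.comp ((QuotientGroup.mk' (K.subgroupOf ⊤)).comp Subgroup.topEquiv.symm.toMonoidHom)
  have hf : Function.Surjective f :=
    e.surjective.comp ((QuotientGroup.mk'_surjective _).comp Subgroup.topEquiv.symm.surjective)
  haveI := c.ms.1
  rcases (inferInstance : f.ker.Normal).eq_bot_or_eq_top with h | h
  · have hi : Function.Injective f := (MonoidHom.ker_eq_bot_iff f).1 h
    obtain ⟨z, hz⟩ := hf (-1)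
    have hzc : z ∈ Subgroup.center G := Subgroup.mem_center_iff.2 fun g => hi (by
      rw [map_mul, map_mul, hz]; exact (by simp : f g * (-1) = (-1) * f g))
    rw [c.center_eq_bot, Subgroup.mem_bot] at hzc
    rw [hzc, map_one] at hz
    have h11 := congrArg (fun M : Matrix.SpecialLinearGroup (Fin 2) (ZMod p) =>
      (M : Matrix (Fin 2) (Fin 2) (ZMod p)) 0 0) hz
    simp at h11
    have : ((2 : ℕ) : ZMod p) = 0 := by push_cast; linear_combination h11
    have := Nat.le_of_dvd (by norm_num) ((ZMod.natCast_eq_zero_iff 2 p).1 this)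
    omega
  · haveI : Subsingleton (Matrix.SpecialLinearGroup (Fin 2) (ZMod p)) := ⟨fun a b => by
      obtain ⟨x, rfl⟩ := hf a
      obtain ⟨y, rfl⟩ := hf b
      rw [(MonoidHom.mem_ker.1 (h ▸ Subgroup.mem_top x) : f x = 1),
        (MonoidHom.mem_ker.1 (h ▸ Subgroup.mem_top y) : f y = 1)]⟩
    exact sl2_not_solvable h5 inferInstance

theorem Crit.p_dvd (c : Crit p G) : p ∣ Nat.card G := by
  by_contra h
  refine c.ms.2.1 ⟨⟨fun a b => ?_⟩⟩
  exact c.comm (H := ⊤) (by rw [Subgroup.card_top]; exact (hpf.out.coprime_iff_not_dvd.2 h).symm)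
    (Subgroup.mem_top a) (Subgroup.mem_top b)

/-- The centre of the Thompson subgroup of a nontrivial `p`-subgroup is nontrivial. -/
theorem zj_ne_bot {P : Subgroup G} (hP : IsPGroup p P) (hne : P ≠ ⊥) :
    Cfsg.centerThompsonOf p P ≠ ⊥ := by
  haveI : Nontrivial P := (Subgroup.nontrivial_iff_ne_bot _).2 hne
  haveI := hP.center_nontrivial
  obtain ⟨z, hz⟩ := exists_prime_orderOf_dvd_card' p
    (((hP.to_subgroup (Subgroup.center P)).card_eq_or_dvd).resolve_left
      (Finite.one_lt_card).ne')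
  intro hb
  have hzG : orderOf ((z : P) : G) = p := by
    rw [Subgroup.orderOf_coe, Subgroup.orderOf_coe, hz]
  set x : G := ((z : P) : G)
  have hxP : x ∈ P := (z : P).2
  have hxc : ∀ a ∈ P, x * a = a * x := fun a ha =>
    (congrArg Subtype.val (Subgroup.mem_center_iff.1 z.2 ⟨a, ha⟩ :) : a * x = x * a).symm
  obtain ⟨A, hA⟩ := (Fusion.replFamily_elementary (G := G) p).maxIn_nonempty P
  have hxJ : x ∈ Fusion.jElem p P := by
    refine (le_sSup hA : A ≤ Fusion.jElem p P) ?_
    exact Fusion.mem_of_maxIn hA hxP (Fusion.isElementaryAbelian_closure_insert hA.2.1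
      (fun a ha => hxc a (hA.1 ha)) (hzG ▸ pow_orderOf_eq_one x))
  have hxZ : x ∈ Cfsg.centerThompsonOf p P := by
    rw [← Fusion.zElem_eq]
    exact ⟨hxJ, Subgroup.mem_centralizer_iff.2 fun a ha => (hxc a (Fusion.jElem_le _ ha)).symm⟩
  rw [hb, Subgroup.mem_bot] at hxZ
  rw [hxZ, orderOf_one] at hzG
  exact hpf.out.ne_one hzG.symm

omit hpf in
theorem sylow_ne_bot' [Fact p.Prime] (c : Crit p G) (P : Sylow p G) : (P : Subgroup G) ≠ ⊥ := fun h => by
  have := P.not_dvd_index
  rw [h, Subgroup.index_bot] at this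
  exact this c.p_dvd

theorem Crit.sylow_le_commutator (c : Crit p G) (P : Sylow p G) :
    (P : Subgroup G) ≤ ⁅Subgroup.normalizer (Cfsg.centerThompsonOf p (P : Subgroup G) : Set G),
      Subgroup.normalizer (Cfsg.centerThompsonOf p (P : Subgroup G) : Set G)⁆ := by
  set L := Subgroup.normalizer (Cfsg.centerThompsonOf p (P : Subgroup G) : Set G)
  have hPL : (P : Subgroup G) ≤ L := Subgroup.le_normalizer.trans (by
    rw [show L = Subgroup.normalizer (Fusion.zElem p (P : Subgroup G) : Set G) by rw [Fusion.zElem_eq]]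
    exact Fusion.normalizer_le_zElem _)
  haveI := c.ms.1
  have hperf : commutator G = ⊤ :=
    (inferInstance : (commutator G).Normal).eq_bot_or_eq_top.resolve_left fun h =>
      c.ms.2.1 ((commutator_eq_bot_iff G).1 h)
  have h1 := Fusion.inf_commutator_eq_focalIn_top (Fusion.sylIn_top P)
  rw [hperf, inf_top_eq, Fusion.focalIn_eq_of_fusion (H := L) le_top fun x hx g _ hg => ?_] at h1
  · exact h1.le.trans (Fusion.focalIn_le_commutator hPL)
  · obtain ⟨n, hn, he⟩ := S0118.result (by have := c.five_le; omega) c.sl2_free P {x}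
      (Set.singleton_subset_iff.2 hx) g⁻¹ (by rintro _ ⟨a, rfl, rfl⟩; show g⁻¹⁻¹ * a * g⁻¹ ∈ (P : Subgroup G); rwa [inv_inv])
    exact ⟨n⁻¹, inv_mem hn, by simpa using he x rfl⟩

omit hpf in
/-- A set covered by the conjugates of `K ∖ 1`. -/
theorem ncard_cover {L K : Subgroup G} (hKL : K ≤ L) (hL : L ≤ Subgroup.normalizer (K : Set G)) {m : ℕ}
    (hm : m ≤ K.relIndex L) {X : Set G} (hX : ∀ x ∈ X, x ≠ 1 ∧ ∃ g : G, g * x * g⁻¹ ∈ K) :
    m * X.ncard ≤ Nat.card G := by
  classical
  have key : ∀ x : X, ∃ q : G ⧸ L, q.out⁻¹ * x.1 * q.out ∈ K := fun x => by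
    obtain ⟨g, hg⟩ := (hX x x.2).2
    obtain ⟨l, hl⟩ := QuotientGroup.mk_out_eq_mul L g⁻¹
    refine ⟨QuotientGroup.mk g⁻¹, ?_⟩
    have := (Subgroup.mem_normalizer_iff.1 (Subgroup.inv_mem _ (hL l.2)) _).1 hg
    rw [hl]
    convert this using 1
    group
  choose q hq using key
  let φ : X → (G ⧸ L) × K := fun x => (q x, ⟨_, hq x⟩)
  have hφ : Function.Injective φ := fun x y h => by
    have h1 : q x = q y := congrArg Prod.fst h
    have h2 : (q x).out⁻¹ * x.1 * (q x).out = (q y).out⁻¹ * y.1 * (q y).out :=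
      congrArg (fun z : (G ⧸ L) × K => (z.2 : G)) h
    rw [h1] at h2
    exact Subtype.ext (mul_left_cancel (mul_right_cancel h2))
  have hle : X.ncard ≤ L.index * Nat.card K := by
    rw [← Nat.card_coe_set_eq, Subgroup.index, ← Nat.card_prod]
    exact Nat.card_le_card_of_injective φ hφ
  calc m * X.ncard ≤ K.relIndex L * (L.index * Nat.card K) := Nat.mul_le_mul hm hle
    _ = Nat.card G := by
      rw [← mul_assoc, Subgroup.relIndex_mul_index hKL, mul_comm, Subgroup.card_mul_index]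

/-- The nontrivial `p`-elements form at most half of the group. -/
theorem Crit.pel_bound (c : Crit p G) :
    2 * {x : G | x ≠ 1 ∧ IsPGroup p (Subgroup.zpowers x)}.ncard ≤ Nat.card G := by
  obtain ⟨P⟩ : Nonempty (Sylow p G) := inferInstance
  set Z := Cfsg.centerThompsonOf p (P : Subgroup G)
  have hZP : Z ≤ (P : Subgroup G) := (Fusion.zElem_eq (p := p) (P : Subgroup G)).symm.le.trans (Fusion.zElem_le _)
  have hPt : (P : Subgroup G) ≠ ⊤ := fun h => c.not_solvable (by
    haveI := P.isPGroup'.isNilpotent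
    exact Group.isSolvable_of_surjective (f := (P : Subgroup G).subtype)
      (fun g => ⟨⟨g, h ▸ Subgroup.mem_top g⟩, rfl⟩))
  set L := Subgroup.normalizer (Z : Set G)
  have hLt : L ≠ ⊤ := c.normalizer_ne_top (zj_ne_bot P.isPGroup' (sylow_ne_bot' c P)) fun h => hPt (top_le_iff.1 (h ▸ hZP))
  have hPL : (P : Subgroup G) ≤ L := Subgroup.le_normalizer.trans (by
    rw [show L = Subgroup.normalizer (Fusion.zElem p (P : Subgroup G) : Set G) by rw [Fusion.zElem_eq]]
    exact Fusion.normalizer_le_zElem _)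
  have hfoc : (P : Subgroup G) ≤ ⁅L, L⁆ := c.sylow_le_commutator P
  haveI := c.sub_solvable hLt
  haveI : Nontrivial L := by
    refine (Subgroup.nontrivial_iff_ne_bot _).2 fun h => ?_
    exact zj_ne_bot P.isPGroup' (sylow_ne_bot' c P) (le_bot_iff.1 (h ▸ hZP.trans hPL))
  have hD : ⁅L, L⁆ = (commutator L).map L.subtype := (Subgroup.map_subtype_commutator L).symm
  refine ncard_cover (L := L) (K := ⁅L, L⁆) (hD ▸ Subgroup.map_subtype_le _) ?_ ?_ ?_
  · rw [hD]
    exact fun l hl => Subgroup.le_normalizer_map L.subtype ⟨⟨l, hl⟩, by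
      rw [Subgroup.normalizer_eq_top_iff.2 inferInstance]; exact Subgroup.mem_top _, rfl⟩
  · rw [hD, Subgroup.relIndex, Subgroup.subgroupOf, Subgroup.comap_map_eq_self_of_injective L.subtype_injective]
    exact Subgroup.one_lt_index_of_ne_top (Group.IsSolvable.commutator_lt_top_of_nontrivial L).ne
  · rintro x ⟨hx1, hxp⟩
    obtain ⟨g, -, hg⟩ := (Fusion.sylIn_top P).conj_le hxp le_top
    exact ⟨hx1, g, hfoc (hg ⟨x, Subgroup.mem_zpowers x, rfl⟩)⟩

/-- `2k ≤ p - 1` for the set of the other primes. -/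
theorem Crit.two_mul_primes (c : Crit p G) :
    2 * ((Nat.card G).primeFactors.erase p).card ≤ p - 1 := by
  set S := (Nat.card G).primeFactors.erase p
  have h5 := c.five_le
  have hS : ∀ r ∈ S, r.Prime ∧ r ∣ p - 1 := fun r hr => by
    obtain ⟨h1, h2⟩ := Finset.mem_erase.1 hr
    obtain ⟨h3, h4, -⟩ := Nat.mem_primeFactors.1 h2
    exact ⟨h3, (c.prime_facts h3 h1 h4).1⟩
  have h1 : ∏ r ∈ S, r ∣ p - 1 :=
    Finset.prod_primes_dvd _ (fun r hr => (hS r hr).1.prime) fun r hr => (hS r hr).2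
  have h2 : 2 ^ S.card ≤ ∏ r ∈ S, r :=
    Finset.pow_card_le_prod S _ 2 fun r hr => (hS r hr).1.two_le
  have h3 : 2 * S.card ≤ 2 ^ S.card := by
    rcases Nat.eq_zero_or_pos S.card with h | h
    · simp [h]
    · have := (Nat.lt_two_pow_self : S.card - 1 < 2 ^ (S.card - 1))
      rw [show S.card = (S.card - 1) + 1 by omega, pow_succ]
      omega
  exact h3.trans (h2.trans (Nat.le_of_dvd (by omega) h1))

/-- The count: `p`-elements cannot all have `p`-group centralisers. -/
theorem Crit.count (c : Crit p G)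
    (hC : ∀ y : G, y ≠ 1 → IsPGroup p (Subgroup.zpowers y) →
      IsPGroup p (Subgroup.centralizer ({y} : Set G))) : False := by
  classical
  set S := (Nat.card G).primeFactors.erase p
  set A : Set G := {x | x ≠ 1 ∧ IsPGroup p (Subgroup.zpowers x)}
  set B : ℕ → Set G := fun r => {x | x ≠ 1 ∧ ∃ b : G, orderOf b = r ∧ x * b = b * x}
  have hS : ∀ r ∈ S, r ≠ p ∧ r.Prime ∧ r ∣ Nat.card G := fun r hr => by
    obtain ⟨h1, h2⟩ := Finset.mem_erase.1 hr
    exact ⟨h1, (Nat.mem_primeFactors.1 h2).1, (Nat.mem_primeFactors.1 h2).2.1⟩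
  have hB : ∀ r ∈ S, p * (B r).ncard ≤ Nat.card G := by
    intro r hr
    obtain ⟨hrp, hrP, hrd⟩ := hS r hr
    haveI := Fact.mk hrP
    obtain ⟨R, hR⟩ := Fusion.exists_sylIn (p := r) (⊤ : Subgroup G)
    have hRc := c.sylow_comm hrp hR
    set K := Subgroup.centralizer (R : Set G)
    have hnp : ∀ b ∈ R, b ≠ 1 → Subgroup.centralizer ({b} : Set G) ≤ K ∧
        (Nat.card (Subgroup.centralizer ({b} : Set G))).Coprime p := by
      intro b hb hb1
      have hRb : R ≤ Subgroup.centralizer ({b} : Set G) := fun a ha =>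
        Subgroup.mem_centralizer_singleton_iff.2 (Subgroup.mem_centralizer_iff.1 (hRc hb) a ha)
      have hco : (Nat.card (Subgroup.centralizer ({b} : Set G))).Coprime p := by
        refine (hpf.out.coprime_iff_not_dvd.2 fun h => ?_).symm
        obtain ⟨y, hy⟩ := exists_prime_orderOf_dvd_card' p h
        have hy1 : (y : G) ≠ 1 := fun h => by
          rw [← Subgroup.orderOf_coe, h, orderOf_one] at hy
          exact hpf.out.ne_one hy.symm
        have hpg := hC y hy1 (Solv.isPGroup_zpowers (k := 1) (by rw [Subgroup.orderOf_coe, hy, pow_one]))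
        have hbC : b ∈ Subgroup.centralizer ({(y : G)} : Set G) :=
          Subgroup.mem_centralizer_singleton_iff.2 (Subgroup.mem_centralizer_singleton_iff.1 y.2).symm
        obtain ⟨i, hi⟩ := IsPGroup.iff_card.1 hR.isPGroup
        obtain ⟨j, hj⟩ := IsPGroup.iff_card.1 hpg
        exact hb1 (orderOf_eq_one_iff.1 (Nat.eq_one_of_dvd_coprimes
          (((Nat.coprime_primes hrP hpf.out).2 hrp).pow i j)
          (hi ▸ Subgroup.orderOf_dvd_natCard R hb) (hj ▸ Subgroup.orderOf_dvd_natCard _ hbC)))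
      exact ⟨fun x hx => Subgroup.mem_centralizer_iff.2 fun a ha => c.comm hco (hRb ha) hx, hco⟩
    obtain ⟨y, hy, hyp, hyC⟩ := c.exists_mover hrp hR hrd
    have hRK : R ≤ K := hRc
    have hKN : Subgroup.normalizer (R : Set G) ≤ Subgroup.normalizer (K : Set G) := fun n hn =>
      Fusion.mem_normalizer_iff_cj.2 (by rw [Fusion.cj_centralizer, Fusion.cj_eq_self hn])
    have hKco : (Nat.card K).Coprime p := by
      obtain ⟨b, hb, hb1⟩ : ∃ b ∈ R, b ≠ 1 := by
        by_contra hno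
        push Not at hno
        exact sylow_ne_bot hR hrd ((Subgroup.eq_bot_iff_forall R).2 hno)
      exact (hnp b hb hb1).2.coprime_dvd_left (Subgroup.card_dvd_of_le
        (Subgroup.centralizer_le (Set.singleton_subset_iff.2 hb)))
    refine ncard_cover (L := K ⊔ Subgroup.zpowers y) (K := K) le_sup_left
      (sup_le Subgroup.le_normalizer (Subgroup.zpowers_le.2 (hKN hy))) ?_ ?_
    · have hdvd : K.relIndex (K ⊔ Subgroup.zpowers y) ∣ Nat.card (Subgroup.zpowers y) := by
        have h := Solv.card_sup_mul_card_inf' K (Subgroup.zpowers y) (Subgroup.zpowers_le.2 (hKN hy))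
        have h' := Subgroup.relIndex_mul_relIndex ⊥ K (K ⊔ Subgroup.zpowers y) bot_le le_sup_left
        rw [Subgroup.relIndex_bot_left, Subgroup.relIndex_bot_left] at h'
        rw [← h', mul_assoc] at h
        exact Dvd.intro _ (Nat.eq_of_mul_eq_mul_left Nat.card_pos h)
      obtain ⟨j, hj⟩ := IsPGroup.iff_card.1 hyp
      obtain ⟨i, -, hi⟩ := (Nat.dvd_prime_pow hpf.out).1 (hj ▸ hdvd)
      rcases i with _ | i
      · exact absurd ((Subgroup.relIndex_eq_one.1 (hi.trans (pow_zero p)) : K ⊔ Subgroup.zpowers y ≤ K)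
          (Subgroup.mem_sup_right (Subgroup.mem_zpowers y))) hyC
      · exact hi ▸ Nat.le_of_dvd (pow_pos hpf.out.pos _) (dvd_pow_self p (Nat.succ_ne_zero i))
    · rintro x ⟨hx1, b, hb, hxb⟩
      obtain ⟨g, -, hg⟩ := hR.conj_le (Solv.isPGroup_zpowers (k := 1) (by rw [hb, pow_one])) le_top
      refine ⟨hx1, g, (hnp _ (hg ⟨b, Subgroup.mem_zpowers b, rfl⟩) ?_).1
        (Subgroup.mem_centralizer_singleton_iff.2 ?_)⟩
      · show g * b * g⁻¹ ≠ 1
        exact fun h => by
          rw [conj_eq_one_iff.1 h, orderOf_one] at hb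
          exact hrP.ne_one hb.symm
      · show g * x * g⁻¹ * (g * b * g⁻¹) = g * b * g⁻¹ * (g * x * g⁻¹)
        calc g * x * g⁻¹ * (g * b * g⁻¹) = g * (x * b) * g⁻¹ := by group
          _ = g * (b * x) * g⁻¹ := by rw [hxb]
          _ = g * b * g⁻¹ * (g * x * g⁻¹) := by group
  have hcov : (Set.univ : Set G) \ {1} ⊆ A ∪ ⋃ r ∈ S, B r := by
    rintro x ⟨-, hx1 : x ≠ 1⟩
    by_cases hxp : IsPGroup p (Subgroup.zpowers x)
    · exact Or.inl ⟨hx1, hxp⟩
    obtain ⟨r, hr, hrd, hrp⟩ : ∃ r, r.Prime ∧ r ∣ orderOf x ∧ r ≠ p := by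
      by_contra hno
      push Not at hno
      exact hxp (Solv.isPGroup_zpowers (Nat.eq_prime_pow_of_unique_prime_dvd (orderOf_pos x).ne'
        fun {d} hd hdd => hno d hd hdd))
    refine Or.inr (Set.mem_biUnion (x := r) (Finset.mem_erase.2 ⟨hrp, Nat.mem_primeFactors.2
      ⟨hr, hrd.trans (orderOf_dvd_natCard x), Nat.card_pos.ne'⟩⟩) ⟨hx1, x ^ (orderOf x / r),
      orderOf_pow_orderOf_div (orderOf_pos x).ne' hrd, ((Commute.refl x).pow_right _).eq⟩)
  have h1 : Nat.card G - 1 ≤ A.ncard + ∑ r ∈ S, (B r).ncard := by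
    refine le_trans ?_ ((Set.ncard_le_ncard hcov).trans ((Set.ncard_union_le _ _).trans
      (Nat.add_le_add_left (Finset.set_ncard_biUnion_le S B) _)))
    rw [Set.ncard_sdiff_singleton_of_mem (Set.mem_univ _), Set.ncard_univ]
  have h2 : p * ∑ r ∈ S, (B r).ncard ≤ S.card * Nat.card G := by
    rw [Finset.mul_sum]
    exact (Finset.sum_le_sum hB).trans (by simp)
  have h3 := c.pel_bound
  have h4 := c.two_mul_primes
  have h5 := c.five_le
  -- `|G| > 2p`
  have hbig : 2 * p < Nat.card G := by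
    obtain ⟨r, hr⟩ : S.Nonempty := by
      by_contra hS0
      rw [Finset.not_nonempty_iff_eq_empty] at hS0
      refine c.not_solvable (Char.isSolvable_of_two_primes hpf.out hpf.out _ rfl fun q hq hqd => ?_)
      by_contra hne
      have : q ∈ S := Finset.mem_erase.2 ⟨fun h => hne (Or.inl h), Nat.mem_primeFactors.2 ⟨hq, hqd, Nat.card_pos.ne'⟩⟩
      rw [hS0] at this
      exact Finset.notMem_empty _ this
    obtain ⟨hrp, hrP, hrd⟩ := hS r hr
    haveI := Fact.mk hrP
    obtain ⟨R, hR⟩ := Fusion.exists_sylIn (p := r) (⊤ : Subgroup G)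
    have h8 := c.om_card hrp hR hrd
    have hd : Nat.card (om r R) * p ∣ Nat.card G :=
      Nat.Coprime.mul_dvd_of_dvd_of_dvd (coprime_of_isPGroup hrp (hR.isPGroup.to_le om_le))
        (Subgroup.card_subgroup_dvd_card _) c.p_dvd
    have h23 : 2 ^ 3 ≤ r ^ 3 := Nat.pow_le_pow_left hrP.two_le 3
    have := Nat.le_of_dvd Nat.card_pos hd
    nlinarith
  set a := A.ncard
  set b := ∑ r ∈ S, (B r).ncard
  have h3' : 2 * a ≤ Nat.card G := h3
  change 2 * S.card ≤ p - 1 at h4
  have h4' : 2 * S.card + 1 ≤ p := by omega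
  obtain ⟨g, hg⟩ : ∃ g, Nat.card G = g + 1 := ⟨Nat.card G - 1, by have := Nat.card_pos (α := G); omega⟩
  rw [hg] at h1 h2 h3' hbig
  rw [Nat.add_sub_cancel] at h1
  have e1 := Nat.mul_le_mul_left (2 * p) h1
  have e2 := Nat.mul_le_mul_left p h3'
  have e3 := Nat.mul_le_mul_right (g + 1) h4'
  nlinarith

end Cfsg.Agent.PPrimeAbelian
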