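import Cfsg.Agent.Lib.Lead.PPrimeAbelian.EvenB
import Cfsg.Agent.Lib.Solv.ConstFour.Structure

/-!
Even order: real elements and the final count.
-/

set_option autoImplicit false
set_option linter.style.haveILetI false

namespace Cfsg.Agent.PPrimeAbelian

open Cfsg.Agent.Fusion (SylIn cj)
open Cfsg.Agent.Terminal (coreOf)

universe u

variable {G : Type u} [Group G] [Finite G] {p : ℕ} [hpf : Fact p.Prime]

namespace Ev

variable (e : Ev p G)

theorem involution_mem_E {a : G} (ha : orderOf a = 2) (haM : a ∈ e.M) : a ∈ om 2 e.S := by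
  set F := coreOf p e.M
  have hFc : F ≤ Subgroup.centralizer (F : Set G) := e.c.le_centralizer (Terminal.coreOf_coprime _)
  have hEF := e.E_le_core
  set W := om 2 F
  have hEW : om 2 e.S ≤ W := fun b hb => (mem_om hFc).2 ⟨hEF hb, ((mem_om e.hSc).1 hb).2⟩
  have hWp : IsPGroup 2 W := fun b => ⟨1, Subtype.ext (by simpa using ((mem_om hFc).1 b.2).2)⟩
  obtain ⟨m, hm, hle⟩ := (e.hS.mono e.S_le le_top).conj_le hWp (om_le.trans (Terminal.coreOf_le _))
  have hle' : cj W m ≤ om 2 e.S := by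
    rintro _ ⟨b, hb, rfl⟩
    refine (mem_om e.hSc).2 ⟨hle ⟨b, hb, rfl⟩, ?_⟩
    rw [← map_pow, ((mem_om hFc).1 hb).2, map_one]
  have hWE : om 2 e.S = W := Subgroup.eq_of_le_of_card_ge hEW
    (Fusion.card_cj W m ▸ Subgroup.card_le_of_le hle')
  obtain ⟨k, hk, hkE, -⟩ := e.into_E ha haM
  have haF : a ∈ F := (Subgroup.mem_normalizer_iff.1 (e.M_le_normalizer_core hk) a).2 (hEF hkE)
  rw [hWE]
  exact (mem_om hFc).2 ⟨haF, ha ▸ pow_orderOf_eq_one a⟩

theorem E_normal : e.M ≤ Subgroup.normalizer (om 2 e.S : Set G) := fun m hm =>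
  Fusion.mem_normalizer_of_cj_le (by
    rintro _ ⟨a, ha, rfl⟩
    by_cases ha1 : a = 1
    · subst ha1; simp
    · exact e.involution_mem_E (by rw [MulEquiv.coe_toMonoidHom, MulEquiv.orderOf_eq, e.order_two ha ha1])
        (e.M.mul_mem (e.M.mul_mem hm (e.S_le (om_le ha))) (e.M.inv_mem hm)))

/-- The action of `N(S)` on `E ∖ 1` is regular modulo its kernel. -/
theorem fix_one {n a : G} (hn : n ∈ Subgroup.normalizer (e.S : Set G)) (ha : a ∈ om 2 e.S) (ha1 : a ≠ 1)
    (hna : n * a * n⁻¹ = a) : n ∈ Subgroup.centralizer (om 2 e.S : Set G) := by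
  set N := Subgroup.normalizer (e.S : Set G)
  have hact : ∀ n : N, ∀ x : {x : om 2 e.S // x ≠ 1},
      (n : G) * x.1 * (n : G)⁻¹ ∈ om 2 e.S := fun n x => om_conj_mem e.hSc n.2 x.1.2
  letI : MulAction N {x : om 2 e.S // x ≠ 1} :=
    { smul := fun n x => ⟨⟨(n : G) * x.1 * (n : G)⁻¹, hact n x⟩, fun h => x.2 (Subtype.ext
        (conj_eq_one_iff.1 (congrArg Subtype.val h :)))⟩
      one_smul := fun x => Subtype.ext (Subtype.ext (by
        show (1 : G) * x.1 * (1 : G)⁻¹ = x.1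
        group))
      mul_smul := fun m n x => Subtype.ext (Subtype.ext (by
        show ((m : G) * n) * x.1 * ((m : G) * n)⁻¹ = (m : G) * ((n : G) * x.1 * (n : G)⁻¹) * (m : G)⁻¹
        group)) }
  haveI : MulAction.IsPretransitive N {x : om 2 e.S // x ≠ 1} := ⟨fun x y => by
    obtain ⟨k, hk, hke⟩ := e.transitive x.1.2 (fun h => x.2 (Subtype.ext h)) y.1.2 (fun h => y.2 (Subtype.ext h))
    exact ⟨⟨k, hk⟩, Subtype.ext (Subtype.ext hke)⟩⟩
  set x₀ : {x : om 2 e.S // x ≠ 1} := ⟨⟨a, ha⟩, fun h => ha1 (congrArg Subtype.val h :)⟩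
  set f := MulAction.toPermHom N {x : om 2 e.S // x ≠ 1}
  have hp := hpf.out
  have hcard : Nat.card {x : om 2 e.S // x ≠ 1} = p := by
    classical
    have h := Nat.card_congr (Equiv.optionSubtypeNe (1 : om 2 e.S))
    rw [Finite.card_option, e.card_E] at h
    exact Nat.succ_injective h
  have hrange : IsPGroup p f.range := by
    rintro ⟨_, k, rfl⟩
    obtain ⟨u, v, hu, hv, huv, ⟨j, hj⟩, hvo⟩ := Solv.exists_ppart p (k : G)
    have hvN : v ∈ N := Subgroup.zpowers_le.2 k.2 hv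
    have hvC := e.c.centralizes (coprime_of_isPGroup e.hp2 e.hS.isPGroup) hvo hvN
    have huN : u ∈ N := Subgroup.zpowers_le.2 k.2 hu
    have hfv : f ⟨v, hvN⟩ = 1 := Equiv.ext fun x => Subtype.ext (Subtype.ext (by
      show v * (x.1 : G) * v⁻¹ = x.1
      rw [← Subgroup.mem_centralizer_iff.1 hvC _ (om_le x.1.2), mul_inv_cancel_right]))
    have hfk : f k = f ⟨u, huN⟩ := by
      rw [show k = (⟨u, huN⟩ : N) * ⟨v, hvN⟩ from Subtype.ext huv.symm, map_mul, hfv, mul_one]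
    refine ⟨j, Subtype.ext ?_⟩
    show f k ^ p ^ j = 1
    rw [hfk, ← map_pow, show (⟨u, huN⟩ : N) ^ p ^ j = 1 from Subtype.ext (by
      show u ^ p ^ j = 1; rw [← hj, pow_orderOf_eq_one]), map_one]
  obtain ⟨j, hj⟩ := IsPGroup.iff_card.1 hrange
  have hj1 : j ≤ 1 := by
    by_contra hlt
    push Not at hlt
    have h1 : p ^ 2 ∣ p.factorial := by
      refine (pow_dvd_pow p hlt).trans (hj ▸ ?_)
      have := Subgroup.card_subgroup_dvd_card f.range
      rwa [Nat.card_perm, hcard] at this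
    obtain ⟨q, hq⟩ : ∃ q, p = q + 1 := ⟨p - 1, by have := hp.two_le; omega⟩
    have h2 : p ∣ q.factorial := by
      rw [hq, Nat.factorial_succ, pow_two, ← hq] at h1
      exact Nat.dvd_of_mul_dvd_mul_left hp.pos h1
    have := hp.dvd_factorial.1 h2
    omega
  have hker : f.ker ≤ MulAction.stabilizer N x₀ := fun k hk => by
    show f k x₀ = x₀
    rw [MonoidHom.mem_ker.1 hk]; rfl
  have hH : (MulAction.stabilizer N x₀).index = p :=
    (MulAction.index_stabilizer_of_transitive N x₀).trans hcard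
  have hkerH : MulAction.stabilizer N x₀ = f.ker := by
    refine le_antisymm ?_ hker
    rw [← Subgroup.relIndex_eq_one]
    have h1 := Subgroup.relIndex_mul_index hker
    rw [hH, Subgroup.index_ker, hj] at h1
    rcases Nat.le_one_iff_eq_zero_or_eq_one.1 hj1 with rfl | rfl
    · rw [pow_zero] at h1
      exact Nat.eq_one_of_mul_eq_one_right h1
    · rw [pow_one] at h1
      exact Nat.eq_of_mul_eq_mul_right hp.pos (by rw [one_mul]; exact h1)
  have hn' : (⟨n, hn⟩ : N) ∈ f.ker := hkerH ▸ (Subtype.ext (Subtype.ext hna) :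
    (⟨n, hn⟩ : N) • x₀ = x₀)
  refine Subgroup.mem_centralizer_iff.2 fun b hb => ?_
  by_cases hb1 : b = 1
  · rw [hb1, one_mul, mul_one]
  have h : n * b * n⁻¹ = b := congrArg (fun z : {x : om 2 e.S // x ≠ 1} => (z.1 : G))
    (Equiv.ext_iff.1 (MonoidHom.mem_ker.1 hn') ⟨⟨b, hb⟩, fun h => hb1 (congrArg Subtype.val h :)⟩)
  calc b * n = n * b * n⁻¹ * n := by rw [h]
    _ = n * b := by group

/-- All involutions of `E` have one centraliser. -/
theorem cent_eq {a : G} (ha : a ∈ om 2 e.S) (ha1 : a ≠ 1) :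
    Subgroup.centralizer ({a} : Set G) ≤ Subgroup.centralizer (om 2 e.S : Set G) := by
  intro x hx
  obtain ⟨o, ho, n, -, hn, rfl⟩ :=
    core_frattini e.solvable_M (e.hS.mono e.S_le le_top) e.hSc (e.hCM a ha ha1 hx)
  have hoC : o ∈ Subgroup.centralizer (om 2 e.S : Set G) := Subgroup.mem_centralizer_iff.2 fun b hb => by
    have h1 : o * b * o⁻¹ * b⁻¹ = 1 := by
      refine Subgroup.mem_bot.1 ?_
      rw [← Fusion.coprime_inf_pGroup (Terminal.coreOf_coprime (p := 2) e.M)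
        (e.hS.isPGroup.to_le (om_le : om 2 e.S ≤ e.S))]
      refine Subgroup.mem_inf.2 ⟨?_, ?_⟩
      · have h3 : b * o⁻¹ * b⁻¹ ∈ coreOf 2 e.M := (Subgroup.mem_normalizer_iff.1
          (Terminal.le_normalizer_coreOf e.M (Subgroup.le_normalizer (e.S_le (om_le hb)))) _).1 (inv_mem ho)
        simpa [mul_assoc] using Subgroup.mul_mem _ ho h3
      · exact Subgroup.mul_mem _
          ((Subgroup.mem_normalizer_iff.1 (e.E_normal (Terminal.coreOf_le _ ho)) b).1 hb) (inv_mem hb)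
    calc b * o = (o * b * o⁻¹ * b⁻¹)⁻¹ * o * b := by group
      _ = o * b := by rw [h1, inv_one, one_mul]
  refine Subgroup.mul_mem _ hoC (e.fix_one hn ha ha1 ?_)
  have hxa : o * n * a = a * (o * n) := Subgroup.mem_centralizer_singleton_iff.1 hx
  have hoa : a * o = o * a := Subgroup.mem_centralizer_iff.1 hoC a ha
  calc n * a * n⁻¹ = o⁻¹ * (o * n * a) * n⁻¹ := by group
    _ = o⁻¹ * (a * o) := by rw [hxa]; group
    _ = a := by rw [hoa]; group

/-- An involution, its subgroup `E` and that subgroup's normaliser. -/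
theorem transport {z : G} (hz : orderOf z = 2) :
    ∃ g : G, ∃ a ∈ om 2 e.S, a ≠ 1 ∧ g * a * g⁻¹ = z := by
  obtain ⟨a, ha, ha1⟩ := e.exists_E
  obtain ⟨t, ht, htM⟩ := e.exists_outside
  by_cases hzM : z ∈ e.M
  · obtain ⟨g, hg⟩ := isConj_iff.1 ((e.conj_out (e.order_two ha ha1) (e.S_le (om_le ha)) ht htM).trans
      (e.conj_out hz hzM ht htM).symm)
    exact ⟨g, a, ha, ha1, hg⟩
  · obtain ⟨g, hg⟩ := isConj_iff.1 (e.conj_out (e.order_two ha ha1) (e.S_le (om_le ha)) hz hzM)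
    exact ⟨g, a, ha, ha1, hg⟩

/-- If `g a g⁻¹` commutes with `y ≠ 1` then `N(⟨y⟩) ≤ gMg⁻¹` and `y` centralises `gEg⁻¹`. -/
theorem pivot {g a y : G} (ha : a ∈ om 2 e.S) (ha1 : a ≠ 1) (hy : y ≠ 1)
    (hc : y * (g * a * g⁻¹) = g * a * g⁻¹ * y) :
    (∀ k : G, k * y * k⁻¹ ∈ Subgroup.zpowers y → g⁻¹ * k * g ∈ e.M) ∧
      ∀ b ∈ om 2 e.S, y * (g * b * g⁻¹) = g * b * g⁻¹ * y := by
  set y' := g⁻¹ * y * g
  have hy' : y' ∈ Subgroup.centralizer ({a} : Set G) := Subgroup.mem_centralizer_singleton_iff.2 (by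
    calc g⁻¹ * y * g * a = g⁻¹ * (y * (g * a * g⁻¹)) * g := by group
      _ = g⁻¹ * (g * a * g⁻¹ * y) * g := by rw [hc]
      _ = a * (g⁻¹ * y * g) := by group)
  have hyE := e.cent_eq ha ha1 hy'
  refine ⟨fun k hk => ?_, fun b hb => ?_⟩
  swap
  · calc y * (g * b * g⁻¹) = g * (y' * b) * g⁻¹ := by simp only [y']; group
      _ = g * (b * y') * g⁻¹ := by rw [Subgroup.mem_centralizer_iff.1 hyE b hb]
      _ = g * b * g⁻¹ * y := by simp only [y']; group
  have hy'1 : y' ≠ 1 := fun h => hy (by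
    calc y = g * y' * g⁻¹ := by simp only [y']; group
      _ = 1 := by rw [h]; group)
  set Y := Subgroup.zpowers y'
  have hY1 : Y ≠ ⊥ := fun h => hy'1 (Subgroup.zpowers_eq_bot.1 h)
  have hY2 : Y ≠ ⊤ := fun h => e.hMt (top_le_iff.1 (h ▸ Subgroup.zpowers_le.2 (e.hCM a ha ha1 hy')))
  refine e.le_M (e.c.normalizer_ne_top hY1 hY2) (om_elementary e.hSc) (by
    have := e.card_E_ge; omega) ?_ (om_le.trans e.S_le) ?_
  · intro b hb
    refine Subgroup.centralizer_le_normalizer _ (Subgroup.mem_centralizer_iff.2 ?_)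
    rintro w ⟨i, rfl⟩
    exact ((show Commute b y' from Subgroup.mem_centralizer_iff.1 hyE b hb).zpow_right i).eq.symm
  · refine Fusion.mem_normalizer_of_cj_le ?_
    rintro _ ⟨w, ⟨i, rfl⟩, rfl⟩
    obtain ⟨j, hj⟩ := hk
    change y ^ j = k * y * k⁻¹ at hj
    refine ⟨j * i, ?_⟩
    show y' ^ (j * i) = g⁻¹ * k * g * y' ^ i * (g⁻¹ * k * g)⁻¹
    have : y' ^ j = g⁻¹ * k * g * y' * (g⁻¹ * k * g)⁻¹ := by
      have h1 : y' ^ j = g⁻¹ * y ^ j * g := by
        have h2 : (g⁻¹ * y * g⁻¹⁻¹) ^ j = g⁻¹ * y ^ j * g⁻¹⁻¹ := conj_zpow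
        simpa [y'] using h2
      rw [h1, hj]; simp only [y']; group
    rw [zpow_mul, this, conj_zpow]

include e in
/-- A real element of odd order has an inverted `p`-group as centraliser. -/
theorem real_cent {w s : G} (hs : orderOf s = 2) (hw : w ≠ 1) (hodd : Odd (orderOf w))
    (hsw : s * w * s⁻¹ = w⁻¹) :
    IsPGroup p (Subgroup.centralizer ({w} : Set G)) ∧
      ∀ v ∈ Subgroup.centralizer ({w} : Set G), s * v * s⁻¹ = v⁻¹ ∧
        Odd (orderOf v) ∧ ∀ v' ∈ Subgroup.centralizer ({w} : Set G), v * v' = v' * v := by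
  have hss := mul_self_of_order hs
  have hw2 : ∀ {v : G}, Odd (orderOf v) → v * v = 1 → v = 1 := fun {v} ho h => by
    have h2 : orderOf v ∣ 2 := orderOf_dvd_of_pow_eq_one (by rw [pow_two, h])
    rcases (Nat.dvd_prime Nat.prime_two).1 h2 with h3 | h3
    · exact orderOf_eq_one_iff.1 h3
    · rw [h3] at ho; exact absurd ho (by decide)
  have hsn : s * w * s⁻¹ ∈ Subgroup.zpowers w := hsw ▸ inv_mem (Subgroup.mem_zpowers w)
  set C := Subgroup.centralizer ({w} : Set G)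
  have hC2 : ∀ z ∈ C, orderOf z ≠ 2 := by
    intro z hz hzo
    obtain ⟨g, a, ha, ha1, rfl⟩ := e.transport hzo
    obtain ⟨hN, hcE⟩ := e.pivot ha ha1 hw (Subgroup.mem_centralizer_singleton_iff.1 hz).symm
    have hs' : g⁻¹ * s * g ∈ om 2 e.S := by
      refine e.involution_mem_E ?_ (hN s hsn)
      have : g⁻¹ * s * g = (MulAut.conj g⁻¹) s := by simp
      rw [this, MulEquiv.orderOf_eq, hs]
    have hcom := hcE _ hs'
    rw [show g * (g⁻¹ * s * g) * g⁻¹ = s by group] at hcom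
    refine hw (hw2 hodd ?_)
    have : w⁻¹ = w := by rw [← hsw, ← hcom, mul_inv_cancel_right]
    calc w * w = w * w⁻¹ := by rw [this]
      _ = 1 := mul_inv_cancel w
  have hfix : ∀ v ∈ C, s * v = v * s → v = 1 := by
    intro v hv hsv
    by_contra hv1
    obtain ⟨g, a, ha, ha1, rfl⟩ := e.transport hs
    obtain ⟨hN, -⟩ := e.pivot ha ha1 hv1 hsv.symm
    have hwv : w * v = v * w := (Subgroup.mem_centralizer_singleton_iff.1 hv).symm
    have hwM := hN w (by rw [hwv, mul_inv_cancel_right]; exact Subgroup.mem_zpowers v)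
    set w' := g⁻¹ * w * g with hw'
    have hcom : a * w' * a⁻¹ * w'⁻¹ ∈ om 2 e.S := by
      rw [show a * w' * a⁻¹ * w'⁻¹ = a * (w' * a⁻¹ * w'⁻¹) by group]
      exact Subgroup.mul_mem _ ha ((Subgroup.mem_normalizer_iff.1 (e.E_normal hwM) _).1 (inv_mem ha))
    have he : a * w' * a⁻¹ * w'⁻¹ = g⁻¹ * (w⁻¹ * w⁻¹) * g := by
      rw [hw']
      calc a * (g⁻¹ * w * g) * a⁻¹ * (g⁻¹ * w * g)⁻¹
          = g⁻¹ * (g * a * g⁻¹ * w * (g * a * g⁻¹)⁻¹ * w⁻¹) * g := by group
        _ = g⁻¹ * (w⁻¹ * w⁻¹) * g := by rw [hsw]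
    rw [he] at hcom
    have h4 := ((mem_om e.hSc).1 hcom).2
    have hconj : ∀ k : G, (g⁻¹ * k * g) ^ 2 = g⁻¹ * k ^ 2 * g := fun k => by
      rw [pow_two, pow_two]; group
    rw [hconj] at h4
    have h5 : (w⁻¹ * w⁻¹) ^ 2 = 1 := by
      calc (w⁻¹ * w⁻¹) ^ 2 = g * (g⁻¹ * (w⁻¹ * w⁻¹) ^ 2 * g) * g⁻¹ := by group
        _ = 1 := by rw [h4]; group
    have h6 : orderOf w ∣ 4 := orderOf_dvd_of_pow_eq_one (by
      rw [← inv_inj, inv_one, ← h5, pow_two, ← pow_two w⁻¹, ← inv_pow]; group)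
    have h7 : orderOf w = 1 := Nat.dvd_one.1 (by
      have hco : (orderOf w).Coprime (2 ^ 2) := (Nat.coprime_two_right.2 hodd).pow_right 2
      exact hco ▸ Nat.dvd_gcd dvd_rfl h6)
    exact hw (orderOf_eq_one_iff.1 h7)
  have hinv := Solv.ConstFour.inverts_of_fpf (D := C) (g := s) (fun v hv => by
      have hwv : v * w = w * v := Subgroup.mem_centralizer_singleton_iff.1 hv
      refine Subgroup.mem_centralizer_singleton_iff.2 ?_
      have h : w = s * w⁻¹ * s⁻¹ := by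
        have := congrArg (·⁻¹) hsw
        simpa [mul_assoc] using this.symm
      have hwi : v * w⁻¹ = w⁻¹ * v := (show Commute v w from hwv).inv_right
      rw [h]
      calc s * v * s⁻¹ * (s * w⁻¹ * s⁻¹) = s * (v * w⁻¹) * s⁻¹ := by group
        _ = s * (w⁻¹ * v) * s⁻¹ := by rw [hwi]
        _ = s * w⁻¹ * s⁻¹ * (s * v * s⁻¹) := by group)
    (fun v _ => by rw [hss, one_mul, mul_one]) hfix
  have hoddC : ∀ v ∈ C, Odd (orderOf v) := fun v hv => by
    by_contra h
    rw [Nat.not_odd_iff_even, even_iff_two_dvd] at h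
    exact hC2 _ (pow_mem hv _) (orderOf_pow_orderOf_div (orderOf_pos v).ne' h)
  refine ⟨fun v => ?_, fun v hv => ⟨(hinv v hv).1, hoddC v hv, (hinv v hv).2⟩⟩
  obtain ⟨u, t, hu, ht, hut, ⟨k, hk⟩, hto⟩ := Solv.exists_ppart p (v : G)
  have htC : t ∈ C := Subgroup.zpowers_le.2 v.2 ht
  have ht1 : t = 1 := by
    have hst := (hinv t htC).1
    have hsN : s ∈ Subgroup.normalizer (Subgroup.zpowers t : Set G) := Fusion.mem_normalizer_of_cj_le (by
      rintro _ ⟨_, ⟨i, rfl⟩, rfl⟩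
      exact ⟨-i, by show t ^ (-i) = s * t ^ i * s⁻¹; rw [← conj_zpow, hst, inv_zpow', zpow_neg]⟩)
    have hco : (Nat.card (Subgroup.zpowers t)).Coprime p := by rw [Nat.card_zpowers]; exact hto
    have hc := Subgroup.mem_centralizer_iff.1 (e.c.centralizes hco (by
      rw [hs]; exact (Nat.coprime_primes Nat.prime_two hpf.out).2 e.hp2) hsN) t (Subgroup.mem_zpowers t)
    rw [← hc, mul_inv_cancel_right] at hst
    exact hw2 (hoddC t htC) (by nth_rw 2 [hst]; exact mul_inv_cancel t)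
  exact ⟨k, Subtype.ext (by show (v : G) ^ p ^ k = 1; rw [← hut, ht1, mul_one, ← hk, pow_orderOf_eq_one])⟩

include e in
/-- Two involutions outside `M` in one coset. -/
theorem exists_real : ∃ s x : G, orderOf s = 2 ∧ x ≠ 1 ∧ Odd (orderOf x) ∧ s * x * s⁻¹ = x⁻¹ := by
  classical
  obtain ⟨a, ha, ha1⟩ := e.exists_E
  set I : Set G := {t | orderOf t = 2 ∧ t ∉ e.M}
  by_cases hinj : Set.InjOn (fun t : G => (QuotientGroup.mk t : G ⧸ e.M)) I
  swap
  · simp only [Set.InjOn, not_forall] at hinj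
    obtain ⟨t, ⟨ht, htM⟩, t', ⟨ht', ht'M⟩, he, hne⟩ := hinj
    have hx : t * t' ∈ e.M := by
      have := QuotientGroup.eq.1 he
      rwa [inv_eq_of_mul_eq_one_right (mul_self_of_order ht)] at this
    have hinv : t * (t * t') * t⁻¹ = (t * t')⁻¹ :=
      conj_inv_of_mul_self (mul_self_of_order ht) (mul_self_of_order ht')
    refine ⟨t, t * t', ht, fun h => hne ?_, ?_, hinv⟩
    · exact (inv_eq_of_mul_eq_one_right (mul_self_of_order ht)).symm.trans (inv_eq_of_mul_eq_one_right h)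
    · by_contra h
      rw [Nat.not_odd_iff_even, even_iff_two_dvd] at h
      set z := (t * t') ^ (orderOf (t * t') / 2)
      have hzo : orderOf z = 2 := orderOf_pow_orderOf_div (orderOf_pos _).ne' h
      refine htM (e.cent_le hzo (pow_mem hx _) (Subgroup.mem_centralizer_singleton_iff.2 ?_))
      have h1 : t * z * t⁻¹ = z⁻¹ := by rw [← conj_pow, hinv, inv_pow]
      rw [inv_eq_of_mul_eq_one_right (mul_self_of_order hzo)] at h1
      calc t * z = t * z * t⁻¹ * t := by group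
        _ = z * t := by rw [h1]
  exfalso
  have hle : I.ncard ≤ e.M.index - 1 := by
    rw [← Set.InjOn.ncard_image hinj, Subgroup.index]
    refine (Set.ncard_le_ncard (t := {q : G ⧸ e.M | q ≠ QuotientGroup.mk 1}) ?_).trans (le_of_eq ?_)
    · rintro _ ⟨t, ⟨-, htM⟩, rfl⟩ h
      exact htM (by simpa using QuotientGroup.eq.1 h)
    · rw [show {q : G ⧸ e.M | q ≠ QuotientGroup.mk 1} = ({QuotientGroup.mk 1} : Set _)ᶜ from rfl,
        Set.ncard_compl, Set.ncard_singleton]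
  let φ : {q : G ⧸ e.M // q ≠ QuotientGroup.mk 1} × {x : om 2 e.S // x ≠ 1} → I := fun qx =>
    ⟨qx.1.1.out * qx.2.1 * qx.1.1.out⁻¹, by
      rw [show qx.1.1.out * (qx.2.1 : G) * qx.1.1.out⁻¹ = (MulAut.conj qx.1.1.out) (qx.2.1 : G) from rfl,
        MulEquiv.orderOf_eq]
      exact e.order_two qx.2.1.2 (fun h => qx.2.2 (Subtype.ext h)), fun h => qx.1.2 (by
      have hq := e.se1 (e.order_two qx.2.1.2 (fun h => qx.2.2 (Subtype.ext h))) (e.S_le (om_le qx.2.1.2)) h
      rw [← QuotientGroup.out_eq' qx.1.1]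
      exact QuotientGroup.eq.2 (by simpa using hq))⟩
  have hφ : Function.Injective φ := by
    rintro ⟨⟨q, hq⟩, ⟨b, hb⟩⟩ ⟨⟨q', hq'⟩, ⟨b', hb'⟩⟩ h
    have h1 : q.out * b * q.out⁻¹ = q'.out * b' * q'.out⁻¹ := congrArg Subtype.val h
    have hb1 : (b : G) ≠ 1 := fun h => hb (Subtype.ext h)
    have hqq : q = q' := by
      have hm := e.se1 (g := q'.out⁻¹ * q.out) (e.order_two b.2 hb1) (e.S_le (om_le b.2)) (by
        rw [show q'.out⁻¹ * q.out * b * (q'.out⁻¹ * q.out)⁻¹ = q'.out⁻¹ * (q.out * b * q.out⁻¹) * q'.out by group,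
          h1, show q'.out⁻¹ * (q'.out * (b' : G) * q'.out⁻¹) * q'.out = b' by group]
        exact e.S_le (om_le b'.2))
      rw [← QuotientGroup.out_eq' q, ← QuotientGroup.out_eq' q']
      exact (QuotientGroup.eq.2 hm).symm
    subst hqq
    exact Prod.ext rfl (Subtype.ext (Subtype.ext (mul_left_cancel (mul_right_cancel h1))))
  have h2 := Nat.card_le_card_of_injective φ hφ
  have hidx : 1 < e.M.index := Subgroup.one_lt_index_of_ne_top e.hMt
  have hcq : Nat.card {q : G ⧸ e.M // q ≠ QuotientGroup.mk 1} + 1 = e.M.index := by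
    rw [← Finite.card_option, Subgroup.index]
    exact Nat.card_congr (Equiv.optionSubtypeNe _)
  have hcx : Nat.card {x : om 2 e.S // x ≠ 1} + 1 = p + 1 := by
    rw [← e.card_E, ← Finite.card_option]
    exact Nat.card_congr (Equiv.optionSubtypeNe _)
  rw [Nat.card_prod, Nat.card_coe_set_eq] at h2
  rw [← hcq] at hle hidx
  rw [Nat.succ_injective hcx] at h2
  have := e.c.five_le
  rw [Nat.add_sub_cancel] at hle
  nlinarith

include e in
theorem false : False := by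
  obtain ⟨s, x, hs, hx, hxo, hsx⟩ := e.exists_real
  obtain ⟨hxp, hxC⟩ := e.real_cent hs hx hxo hsx
  have hxz : IsPGroup p (Subgroup.zpowers x) :=
    hxp.to_le (Subgroup.zpowers_le.2 (Subgroup.mem_centralizer_singleton_iff.2 rfl))
  obtain ⟨P, hP⟩ := hxz.exists_le_sylow
  have hxP : x ∈ (P : Subgroup G) := hP (Subgroup.mem_zpowers x)
  haveI : Nontrivial (P : Subgroup G) := ⟨⟨⟨x, hxP⟩, 1, fun h => hx (congrArg Subtype.val h :)⟩⟩
  haveI := P.isPGroup'.center_nontrivial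
  obtain ⟨z, hz⟩ := exists_ne (1 : Subgroup.center (P : Subgroup G))
  have hzG : ((z : (P : Subgroup G)) : G) ≠ 1 := fun h => hz (Subtype.ext (Subtype.ext h))
  have hzc : ∀ y ∈ (P : Subgroup G), y * ((z : (P : Subgroup G)) : G) = ((z : (P : Subgroup G)) : G) * y :=
    fun y hy => congrArg Subtype.val (Subgroup.mem_center_iff.1 z.2 ⟨y, hy⟩ :)
  obtain ⟨hzi, hzo, -⟩ := hxC ((z : (P : Subgroup G)) : G)
    (Subgroup.mem_centralizer_singleton_iff.2 (hzc x hxP).symm)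
  obtain ⟨-, hzC⟩ := e.real_cent hs hzG hzo hzi
  have hPab : ∀ y ∈ (P : Subgroup G), y * x = x * y := fun y hy =>
    (hzC y (Subgroup.mem_centralizer_singleton_iff.2 (hzc y hy))).2.2 x
      (Subgroup.mem_centralizer_singleton_iff.2 (hzc x hxP))
  refine e.c.count fun y hy hyp => ?_
  obtain ⟨g, -, hg⟩ := (Fusion.sylIn_top P).conj_le hyp le_top
  set y' := g * y * g⁻¹
  have hy' : y' ∈ (P : Subgroup G) := hg ⟨y, Subgroup.mem_zpowers y, rfl⟩
  obtain ⟨hi, ho, -⟩ := hxC y' (Subgroup.mem_centralizer_singleton_iff.2 (hPab y' hy'))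
  obtain ⟨hyP, -⟩ := e.real_cent hs (fun h => hy (conj_eq_one_iff.1 h)) ho hi
  refine (Fusion.isPGroup_cj hyP g⁻¹).to_le fun k hk => ?_
  refine ⟨g * k * g⁻¹, Subgroup.mem_centralizer_singleton_iff.2 ?_, ?_⟩
  · calc g * k * g⁻¹ * y' = g * (k * y) * g⁻¹ := by simp only [y']; group
      _ = g * (y * k) * g⁻¹ := by rw [Subgroup.mem_centralizer_singleton_iff.1 hk]
      _ = y' * (g * k * g⁻¹) := by simp only [y']; group
  · show g⁻¹ * (g * k * g⁻¹) * g⁻¹⁻¹ = k
    group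

end Ev

theorem Crit.odd (c : Crit p G) : Odd (Nat.card G) := by
  rw [← Nat.not_even_iff_odd, even_iff_two_dvd]
  intro h
  obtain ⟨e⟩ := c.exists_ev h
  exact e.false

end Cfsg.Agent.PPrimeAbelian
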