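import Cfsg.Agent.Lib.Lead.PPrimeAbelian.EvenBasic
import Cfsg.Agent.Lib.Lead.PPrimeAbelian.Count
import Cfsg.Agent.Lib.Fusion.Reduction
import Cfsg.Agent.Lib.Fusion.Sections

/-!
Even order: `E` lies in `O_{p'}(M)`.
-/

set_option autoImplicit false
set_option linter.style.haveILetI false

namespace Cfsg.Agent.PPrimeAbelian

open Cfsg.Agent.Fusion (SylIn cj)
open Cfsg.Agent.Terminal (coreOf)
open scoped commutatorElement

universe u

variable {G : Type u} [Group G] [Finite G] {p : ℕ} [hpf : Fact p.Prime]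

/-- `M = O_{p'}(M) N_M(Z(J(P)))` in a solvable group. -/
theorem zj_frattini {X : Type u} [Group X] [Finite X] (hs : Group.IsSolvable X) (h5 : 5 ≤ p)
    (P : Sylow p X) :
    Cfsg.pPrimeCore p X ⊔ Subgroup.normalizer (Cfsg.centerThompsonOf p (P : Subgroup X) : Set X) = ⊤ := by
  set N := Cfsg.pPrimeCore p X
  set π := QuotientGroup.mk' N
  haveI := hs
  have hcop : (Nat.card N).Coprime p := Fusion.card_pPrimeCore_coprime p X
  haveI : Group.IsSolvable (X ⧸ N) := Group.isSolvable_of_surjective (QuotientGroup.mk'_surjective N)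
  have hc := Fusion.centralizer_pCore_le_of_solvable (p := p) (G := X ⧸ N) inferInstance
    Fusion.pPrimeCore_quotient_eq_bot
  have hp2 : p ≠ 2 := by omega
  have hst : ∀ (Q : Subgroup (X ⧸ N)) [Q.Normal], IsPGroup p Q → Cfsg.IsPStableOn p Q := fun Q _ hQ =>
    Fusion.isPStableOn_of_not_involves_sl2 hp2 (fun h => sl2_not_solvable h5 (SSF.isSolvable_of_involves h)) Q hQ
  obtain ⟨T, hT⟩ := (Fusion.sylIn_map_mk (N := N) (Fusion.sylIn_top P)).exists_sylow
  have h1 := Fusion.centerThompsonOf_normal hp2 hc hst T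
  rw [hT, Fusion.inducedFunctor_map_of_injOn Fusion.isCharPFunctor_wZE π
    (Fusion.injOn_mk_of_coprime hcop P.isPGroup') P.isPGroup', Fusion.inducedFunctor_wZE] at h1
  refine top_le_iff.1 fun g _ => ?_
  have hVP : Cfsg.centerThompsonOf p (P : Subgroup X) ≤ (P : Subgroup X) :=
    (Fusion.zElem_eq (p := p) (P : Subgroup X)).symm.le.trans (Fusion.zElem_le _)
  obtain ⟨n, hn, he⟩ := Fusion.exists_lift_normalizer hcop (P.isPGroup'.to_le hVP) (y := π g)
    (by haveI := h1; rw [Subgroup.normalizer_eq_top]; exact Subgroup.mem_top _)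
  rw [← inv_mul_cancel_right g n]
  refine Subgroup.mul_mem_sup ((QuotientGroup.eq_one_iff _).1 ?_) hn
  show π (g * n⁻¹) = 1
  rw [map_mul, map_inv, he, mul_inv_cancel]

/-- The same, for a subgroup. -/
theorem zj_frattini_of {M P : Subgroup G} (hs : Group.IsSolvable M) (h5 : 5 ≤ p) (hP : SylIn p P M)
    {x : G} (hx : x ∈ M) :
    ∃ o ∈ coreOf p M, ∃ n ∈ M, n ∈ Subgroup.normalizer (Cfsg.centerThompsonOf p P : Set G) ∧ x = o * n := by
  obtain ⟨Q, hQ⟩ := hP.exists_sylow_subgroupOf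
  have h := zj_frattini hs h5 Q
  have hmap : (Q : Subgroup M).map M.subtype = P := by rw [hQ, Subgroup.map_subgroupOf_eq_of_le hP.le]
  have hZ : (Cfsg.centerThompsonOf p (Q : Subgroup M)).map M.subtype = Cfsg.centerThompsonOf p P := by
    rw [← Fusion.inducedFunctor_wZE, ← Fusion.inducedFunctor_wZE,
      ← Fusion.inducedFunctor_map_of_injOn Fusion.isCharPFunctor_wZE M.subtype
        M.subtype_injective.injOn Q.isPGroup', hmap]
  have hx' : (⟨x, hx⟩ : M) ∈ Cfsg.pPrimeCore p M ⊔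
      Subgroup.normalizer (Cfsg.centerThompsonOf p (Q : Subgroup M) : Set M) := h ▸ Subgroup.mem_top _
  obtain ⟨o, ho, n, hn, he⟩ := Subgroup.mem_sup_of_normal_left.1 hx'
  refine ⟨o, ⟨o, ho, rfl⟩, n, n.2, ?_, (congrArg Subtype.val he :).symm⟩
  rw [← hZ]
  exact Subgroup.le_normalizer_map M.subtype ⟨n, hn, rfl⟩

namespace Ev

variable (e : Ev p G)

theorem solvable_M : Group.IsSolvable e.M := e.c.sub_solvable e.hMt

theorem M_le_normalizer_core : e.M ≤ Subgroup.normalizer (coreOf p e.M : Set G) :=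
  Subgroup.le_normalizer.trans (Terminal.le_normalizer_coreOf e.M)

theorem E_dichotomy : om 2 e.S ≤ coreOf p e.M ∨ ∀ a ∈ om 2 e.S, a ∈ coreOf p e.M → a = 1 := by
  by_cases h : ∀ a ∈ om 2 e.S, a ∈ coreOf p e.M → a = 1
  · exact Or.inr h
  push Not at h
  obtain ⟨a, ha, haF, ha1⟩ := h
  refine Or.inl fun b hb => ?_
  by_cases hb1 : b = 1
  · exact hb1 ▸ one_mem _
  obtain ⟨n, hn, rfl⟩ := e.transitive ha ha1 hb hb1
  exact (Subgroup.mem_normalizer_iff.1 (e.M_le_normalizer_core (e.NS_le hn)) a).1 haF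

theorem p_dvd_M : p ∣ Nat.card e.M := by
  obtain ⟨y, hy, hyp, hyC⟩ := e.c.exists_mover e.hp2 e.hS e.h2
  obtain ⟨k, hk⟩ := IsPGroup.iff_card.1 hyp
  have hk0 : k ≠ 0 := fun h => hyC (by
    rw [h, pow_zero] at hk
    rw [Nat.card_zpowers, orderOf_eq_one_iff] at hk
    exact hk ▸ one_mem _)
  exact ((dvd_pow_self p hk0).trans (hk ▸ dvd_rfl)).trans
    (Subgroup.card_dvd_of_le (Subgroup.zpowers_le.2 (e.NS_le hy)))

/-- `E` lies in `O_{p'}(M)`. -/
theorem E_le_core : om 2 e.S ≤ coreOf p e.M := by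
  refine e.E_dichotomy.resolve_right fun hB => ?_
  set F := coreOf p e.M
  have hFM : F ≤ e.M := Terminal.coreOf_le _
  have hFodd : ¬ 2 ∣ Nat.card F := by
    intro h
    obtain ⟨a, ha⟩ := exists_prime_orderOf_dvd_card' 2 h
    have hao : orderOf (a : G) = 2 := by rw [Subgroup.orderOf_coe, ha]
    obtain ⟨m, hm, hmE, hm1⟩ := e.into_E hao (hFM a.2)
    exact hm1 (hB _ hmE ((Subgroup.mem_normalizer_iff.1 (e.M_le_normalizer_core hm) _).1 a.2))
  obtain ⟨P₁, hP₁⟩ := Fusion.exists_sylIn (p := p) e.M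
  have hP₁ne : P₁ ≠ ⊥ := fun h => hP₁.not_dvd (by
    rw [h, Subgroup.relIndex_bot_left]; exact e.p_dvd_M)
  set Z := Cfsg.centerThompsonOf p P₁
  have hZP : Z ≤ P₁ := (Fusion.zElem_eq (p := p) P₁).symm.le.trans (Fusion.zElem_le _)
  set L := Subgroup.normalizer (Z : Set G)
  have hLt : L ≠ ⊤ := e.c.normalizer_ne_top (zj_ne_bot hP₁.isPGroup hP₁ne) fun h =>
    e.hMt (top_le_iff.1 (h ▸ hZP.trans hP₁.le))
  -- the index of `M ⊓ L` in `M` is odd
  have hsup : e.M ≤ F ⊔ (e.M ⊓ L) := fun x hx => by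
    obtain ⟨o, ho, n, hn, hn', rfl⟩ := zj_frattini_of e.solvable_M e.c.five_le hP₁ hx
    exact Subgroup.mul_mem_sup ho ⟨hn, hn'⟩
  obtain ⟨T, hT⟩ := Fusion.exists_sylIn (p := 2) (e.M ⊓ L)
  have hTM : SylIn 2 T e.M := by
    refine ⟨hT.le.trans inf_le_left, hT.isPGroup, fun h => ?_⟩
    rw [← Subgroup.relIndex_mul_relIndex T (e.M ⊓ L) e.M hT.le inf_le_left] at h
    refine ((Nat.Prime.dvd_mul Nat.prime_two).1 h).elim hT.not_dvd fun h' => hFodd (h'.trans ?_)
    have h1 := Solv.card_sup_mul_card_inf' F (e.M ⊓ L) (inf_le_left.trans e.M_le_normalizer_core)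
    rw [le_antisymm (sup_le hFM inf_le_left) hsup] at h1
    have h2 := Subgroup.relIndex_mul_relIndex ⊥ (e.M ⊓ L) e.M bot_le inf_le_left
    rw [Subgroup.relIndex_bot_left, Subgroup.relIndex_bot_left] at h2
    rw [← h2, mul_comm (Nat.card F), mul_assoc] at h1
    exact Dvd.intro _ (Nat.eq_of_mul_eq_mul_left Nat.card_pos h1)
  obtain ⟨m, hm, hmT⟩ := (e.hS.mono e.S_le le_top).conj_eq hTM
  have hLM : L ≤ e.M := by
    refine e.le_M hLt (A := cj (om 2 e.S) m) ?_ ?_ ?_ ?_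
    · obtain ⟨hc, hx⟩ := om_elementary (r := 2) e.hSc
      refine ⟨⟨⟨?_⟩⟩, ?_⟩
      · rintro ⟨_, a, ha, rfl⟩ ⟨_, b, hb, rfl⟩
        refine Subtype.ext ?_
        show m * a * m⁻¹ * (m * b * m⁻¹) = m * b * m⁻¹ * (m * a * m⁻¹)
        have : a * b = b * a := Subgroup.mem_centralizer_iff.1 (e.hSc (om_le hb)) a (om_le ha)
        calc m * a * m⁻¹ * (m * b * m⁻¹) = m * (a * b) * m⁻¹ := by group
          _ = m * (b * a) * m⁻¹ := by rw [this]
          _ = _ := by group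
      · rintro _ ⟨a, ha, rfl⟩
        rw [← map_pow, hx a ha, map_one]
    · rw [Fusion.card_cj]; have := e.card_E_ge; omega
    · exact (Fusion.cj_mono om_le m).trans (hmT.le.trans (hT.le.trans inf_le_right))
    · exact (Fusion.cj_mono (om_le.trans e.S_le) m).trans_eq (Fusion.cj_eq_self_of_mem hm)
  -- `P₁` is a Sylow subgroup of the group
  obtain ⟨P, hP₁P⟩ := hP₁.isPGroup.exists_le_sylow
  have hPeq : (P : Subgroup G) = P₁ := by
    by_contra hne
    have hlt : P₁ < (P : Subgroup G) := lt_of_le_of_ne hP₁P (Ne.symm hne)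
    haveI := P.isPGroup'.isNilpotent
    have hlt' : P₁.subgroupOf (P : Subgroup G) < ⊤ := lt_top_iff_ne_top.2 fun h =>
      hlt.not_ge (Subgroup.subgroupOf_eq_top.1 h)
    obtain ⟨x, hxN, hxP₁⟩ := SetLike.exists_of_lt (Group.normalizerCondition_of_isNilpotent _ hlt')
    have hxL : (x : G) ∈ L := by
      have h := Fusion.normalizer_le_zElem (p := p) P₁
      rw [Fusion.zElem_eq] at h
      refine h ?_
      have := Subgroup.le_normalizer_map (P : Subgroup G).subtype ⟨x, hxN, rfl⟩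
      rwa [Subgroup.map_subgroupOf_eq_of_le hP₁P] at this
    have hQ : P₁ ⊔ Subgroup.zpowers (x : G) ≤ e.M := sup_le hP₁.le (Subgroup.zpowers_le.2 (hLM hxL))
    have hQp : IsPGroup p (P₁ ⊔ Subgroup.zpowers (x : G) : Subgroup G) :=
      P.isPGroup'.to_le (sup_le hP₁P (Subgroup.zpowers_le.2 x.2))
    exact hxP₁ ((hP₁.eq_of_le hQp le_sup_left hQ) ▸ Subgroup.mem_sup_right (Subgroup.mem_zpowers _) :
      (x : G) ∈ P₁)
  have hPM' : P₁ ≤ ⁅e.M, e.M⁆ := by
    have h := e.c.sylow_le_commutator P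
    rw [hPeq] at h
    exact h.trans (Subgroup.commutator_mono hLM hLM)
  -- the normal subgroup with `p`-quotient
  set NS := Subgroup.normalizer (e.S : Set G)
  set D₁ := NS ⊓ Subgroup.centralizer (om 2 e.S : Set G)
  set M₁ := coreOf 2 e.M ⊔ D₁
  have hM₁M : M₁ ≤ e.M := sup_le (Terminal.coreOf_le _) (inf_le_left.trans e.NS_le)
  have hdec : ∀ x ∈ e.M, ∃ o ∈ coreOf 2 e.M, ∃ n ∈ NS, x = o * n := fun x hx => by
    obtain ⟨o, ho, n, -, hn, he⟩ := core_frattini e.solvable_M (e.hS.mono e.S_le le_top) e.hSc hx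
    exact ⟨o, ho, n, hn, he⟩
  have hNE : ∀ n ∈ NS, n ∈ Subgroup.normalizer (M₁ : Set G) := fun n hn => Fusion.mem_normalizer_of_cj_le (by
    rw [Fusion.cj_sup, Fusion.cj_inf, Fusion.cj_eq_self_of_mem hn, Fusion.cj_centralizer,
      Fusion.cj_eq_self (normalizer_le_normalizer_om e.hSc hn),
      Fusion.cj_eq_self (Terminal.le_normalizer_coreOf e.M (Subgroup.le_normalizer (e.NS_le hn)))])
  haveI hM₁n : (M₁.subgroupOf e.M).Normal := ⟨fun z hz w => by
    obtain ⟨o, ho, n, hn, he⟩ := hdec w w.2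
    have hw : (w : G) ∈ Subgroup.normalizer (M₁ : Set G) :=
      he ▸ Subgroup.mul_mem _ (Subgroup.le_normalizer (Subgroup.mem_sup_left ho)) (hNE n hn)
    exact (Subgroup.mem_normalizer_iff.1 hw _).1 hz⟩
  set π := QuotientGroup.mk' (M₁.subgroupOf e.M)
  have hQp : IsPGroup p (e.M ⧸ M₁.subgroupOf e.M) := by
    intro q
    obtain ⟨x, rfl⟩ := QuotientGroup.mk'_surjective _ q
    obtain ⟨o, ho, n, hn, he⟩ := hdec x x.2
    obtain ⟨u, v, hu, hv, huv, ⟨k, hk⟩, hvo⟩ := Solv.exists_ppart p n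
    have hv1 : v ∈ M₁ := Subgroup.mem_sup_right ⟨Subgroup.zpowers_le.2 hn hv,
      Subgroup.centralizer_le om_le (e.c.centralizes (coprime_of_isPGroup e.hp2 e.hS.isPGroup) hvo
        (Subgroup.zpowers_le.2 hn hv))⟩
    have huM : u ∈ e.M := e.NS_le (Subgroup.zpowers_le.2 hn hu)
    have hxu : π x = π ⟨u, huM⟩ := by
      have hxe : x = (⟨o, Terminal.coreOf_le _ ho⟩ : e.M) * (⟨u, huM⟩ * ⟨v, hM₁M hv1⟩) :=
        Subtype.ext (by show (x : G) = o * (u * v); rw [he, huv])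
      rw [hxe, map_mul, map_mul,
        show π ⟨o, Terminal.coreOf_le _ ho⟩ = 1 from (QuotientGroup.eq_one_iff _).2 (Subgroup.mem_sup_left ho),
        show π ⟨v, hM₁M hv1⟩ = 1 from (QuotientGroup.eq_one_iff _).2 hv1, one_mul, mul_one]
    refine ⟨k, ?_⟩
    rw [hxu, ← map_pow, show (⟨u, huM⟩ : e.M) ^ p ^ k = 1 from Subtype.ext (by
      show u ^ p ^ k = 1; rw [← hk, pow_orderOf_eq_one]), map_one]
  obtain ⟨Q, hQ⟩ := hP₁.exists_sylow_subgroupOf
  have hQtop : (Q : Subgroup e.M).map π = ⊤ := by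
    obtain ⟨R, hR⟩ := (Fusion.sylIn_map_mk (N := M₁.subgroupOf e.M) (Fusion.sylIn_top Q)).exists_sylow
    rw [← hR]
    exact (R.is_maximal' (hQp.to_subgroup ⊤) le_top).symm
  have hcomm : commutator (e.M ⧸ M₁.subgroupOf e.M) = ⊤ := by
    refine top_le_iff.1 ?_
    rw [← hQtop, commutator_def, ← Subgroup.map_top_of_surjective π (QuotientGroup.mk'_surjective _),
      ← Subgroup.map_commutator]
    refine Subgroup.map_mono fun z hz => ?_
    have h2 : (z : G) ∈ ⁅e.M, e.M⁆ := hPM' (by rw [hQ] at hz; exact hz)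
    rw [← Subgroup.map_subtype_commutator] at h2
    obtain ⟨w, hw, hwz⟩ := h2
    rw [← commutator_def, ← show w = z from Subtype.ext hwz]
    exact hw
  haveI := e.solvable_M
  haveI : Group.IsSolvable (e.M ⧸ M₁.subgroupOf e.M) :=
    Group.isSolvable_of_surjective (QuotientGroup.mk'_surjective _)
  haveI : Nontrivial (e.M ⧸ M₁.subgroupOf e.M) := by
    obtain ⟨y, hy, hyp, w, hw, hne⟩ := e.c.mover_om e.hp2 e.hS e.h2
    refine ⟨⟨π ⟨y, e.NS_le hy⟩, 1, fun h => hne ?_⟩⟩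
    have hyM₁ : y ∈ M₁ :=
      (QuotientGroup.eq_one_iff (N := M₁.subgroupOf e.M) (⟨y, e.NS_le hy⟩ : e.M)).1 h
    have hD₁N : D₁ ≤ Subgroup.normalizer (coreOf 2 e.M : Set G) :=
      (inf_le_left.trans e.NS_le).trans (Subgroup.le_normalizer.trans (Terminal.le_normalizer_coreOf _))
    rw [← SetLike.mem_coe, Subgroup.coe_mul_of_right_le_normalizer_left _ _ hD₁N] at hyM₁
    obtain ⟨o, ho, d, hd, rfl⟩ := hyM₁
    have hoN : o ∈ NS := by simpa using NS.mul_mem hy (NS.inv_mem hd.1)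
    have how : o * w * o⁻¹ * w⁻¹ = 1 := by
      refine Subgroup.mem_bot.1 ?_
      rw [← Fusion.coprime_inf_pGroup (Terminal.coreOf_coprime (p := 2) e.M) e.hS.isPGroup]
      refine Subgroup.mem_inf.2 ⟨?_, ?_⟩
      · have h3 : w * o⁻¹ * w⁻¹ ∈ coreOf 2 e.M := (Subgroup.mem_normalizer_iff.1
          (Terminal.le_normalizer_coreOf e.M (Subgroup.le_normalizer (e.S_le (om_le hw)))) _).1 (inv_mem ho)
        simpa [mul_assoc] using Subgroup.mul_mem _ ho h3
      · exact e.S.mul_mem ((Subgroup.mem_normalizer_iff.1 hoN w).1 (om_le hw)) (e.S.inv_mem (om_le hw))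
    have how' : o * w = w * o := by
      calc o * w = o * w * o⁻¹ * w⁻¹ * w * o := by group
        _ = w * o := by rw [how, one_mul]
    show o * d * w = w * (o * d)
    rw [mul_assoc, ← Subgroup.mem_centralizer_iff.1 hd.2 w hw, ← mul_assoc, how', mul_assoc]
  exact (Group.IsSolvable.commutator_lt_top_of_nontrivial _).ne hcomm

end Ev

end Cfsg.Agent.PPrimeAbelian
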