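import Cfsg.Agent.Lib.Lead.PPrimeAbelian.EvenSetup
import Cfsg.Agent.Lib.Fusion.BurnsideFusion
import Mathlib.GroupTheory.GroupAction.Quotient

/-!
Even order: the subgroup `M` controls its involutions.
-/

set_option autoImplicit false
set_option linter.style.haveILetI false

namespace Cfsg.Agent.PPrimeAbelian

open Cfsg.Agent.Fusion (SylIn cj)
open Cfsg.Agent.Terminal (coreOf)

universe u

variable {G : Type u} [Group G] [Finite G] {p : ℕ} [hpf : Fact p.Prime]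

/-- The even-order data. -/
structure Ev (p : ℕ) (G : Type u) [Group G] [Finite G] [Fact p.Prime] where
  c : Crit p G
  S : Subgroup G
  M : Subgroup G
  hp2 : 2 ≠ p
  hS : SylIn 2 S ⊤
  h2 : 2 ∣ Nat.card G
  hMt : M ≠ ⊤
  hNM : Subgroup.normalizer (om 2 S : Set G) ≤ M
  hCM : ∀ a ∈ om 2 S, a ≠ 1 → Subgroup.centralizer ({a} : Set G) ≤ M

theorem Crit.exists_ev (c : Crit p G) (h2 : 2 ∣ Nat.card G) : Nonempty (Ev p G) := by
  have hp2 : 2 ≠ p := by have := c.five_le; omega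
  obtain ⟨S, hS⟩ := Fusion.exists_sylIn (p := 2) (⊤ : Subgroup G)
  obtain ⟨M, h1, h3, h4⟩ := c.exists_control hp2 hS h2
  exact ⟨⟨c, S, M, hp2, hS, h2, h1, h3, h4⟩⟩

namespace Ev

variable (e : Ev p G)

theorem hSc : e.S ≤ Subgroup.centralizer (e.S : Set G) := e.c.sylow_comm e.hp2 e.hS

theorem card_E_ge : 8 ≤ Nat.card (om 2 e.S) := e.c.om_card e.hp2 e.hS e.h2

theorem exists_E : ∃ a ∈ om 2 e.S, a ≠ 1 := by
  by_contra hno
  push Not at hno
  have := e.card_E_ge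
  rw [(Subgroup.eq_bot_iff_forall _).2 hno, Subgroup.card_bot] at this
  omega

theorem order_two {a : G} (ha : a ∈ om 2 e.S) (ha1 : a ≠ 1) : orderOf a = 2 :=
  orderOf_eq_prime ((mem_om e.hSc).1 ha).2 ha1

theorem mem_E {a : G} (ha : a ∈ e.S) (h : orderOf a = 2) : a ∈ om 2 e.S :=
  (mem_om e.hSc).2 ⟨ha, h ▸ pow_orderOf_eq_one a⟩

theorem E_le_centralizer {a : G} (ha : a ∈ om 2 e.S) : e.S ≤ Subgroup.centralizer ({a} : Set G) :=
  fun s hs => Subgroup.mem_centralizer_singleton_iff.2 (Subgroup.mem_centralizer_iff.1 (e.hSc (om_le ha)) s hs)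

theorem S_le : e.S ≤ e.M := by
  obtain ⟨a, ha, ha1⟩ := e.exists_E
  exact (e.E_le_centralizer ha).trans (e.hCM a ha ha1)

theorem NS_le : Subgroup.normalizer (e.S : Set G) ≤ e.M :=
  (normalizer_le_normalizer_om e.hSc).trans e.hNM

theorem isPGroup_zpowers_inv {a : G} (ha : orderOf a = 2) : IsPGroup 2 (Subgroup.zpowers a) :=
  Solv.isPGroup_zpowers (k := 1) (by rw [ha, pow_one])

theorem into_E {a : G} (ha : orderOf a = 2) (haM : a ∈ e.M) :
    ∃ m ∈ e.M, m * a * m⁻¹ ∈ om 2 e.S ∧ m * a * m⁻¹ ≠ 1 := by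
  obtain ⟨m, hm, hle⟩ := (e.hS.mono e.S_le le_top).conj_le (isPGroup_zpowers_inv ha) (Subgroup.zpowers_le.2 haM)
  have ho : orderOf (m * a * m⁻¹) = 2 := by
    rw [show m * a * m⁻¹ = (MulAut.conj m) a from rfl, MulEquiv.orderOf_eq, ha]
  exact ⟨m, hm, e.mem_E (hle ⟨a, Subgroup.mem_zpowers a, rfl⟩) ho, fun h => by simp [h] at ho⟩

theorem cent_le {a : G} (ha : orderOf a = 2) (haM : a ∈ e.M) :
    Subgroup.centralizer ({a} : Set G) ≤ e.M := by
  obtain ⟨m, hm, hmE, hm1⟩ := e.into_E ha haM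
  intro x hx
  have hx' : x * a = a * x := Subgroup.mem_centralizer_singleton_iff.1 hx
  have : m * x * m⁻¹ ∈ e.M := e.hCM _ hmE hm1 (Subgroup.mem_centralizer_singleton_iff.2 (by
    calc m * x * m⁻¹ * (m * a * m⁻¹) = m * (x * a) * m⁻¹ := by group
      _ = m * (a * x) * m⁻¹ := by rw [hx']
      _ = m * a * m⁻¹ * (m * x * m⁻¹) := by group))
  exact (Subgroup.mul_mem_cancel_left _ hm).1 ((Subgroup.mul_mem_cancel_right _ (inv_mem hm)).1 this)

/-- An element conjugating an involution of `M` into `M` lies in `M`. -/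
theorem se1 {a g : G} (ha : orderOf a = 2) (haM : a ∈ e.M) (hgM : g * a * g⁻¹ ∈ e.M) : g ∈ e.M := by
  obtain ⟨m, hm, hmE, hm1⟩ := e.into_E ha haM
  obtain ⟨k, hk, hkE, -⟩ := e.into_E (a := g * a * g⁻¹)
    (by rw [show g * a * g⁻¹ = (MulAut.conj g) a from rfl, MulEquiv.orderOf_eq, ha]) hgM
  set h := k * g * m⁻¹ with hh
  have hconj : h * (m * a * m⁻¹) * h⁻¹ = k * (g * a * g⁻¹) * k⁻¹ := by rw [hh]; group
  obtain ⟨n, hn, hne⟩ := Fusion.fusion_of_abelian e.hS e.hSc (om_le hmE)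
    (g := h) (hconj ▸ om_le hkE)
  set a' := m * a * m⁻¹
  have hc : n⁻¹ * h ∈ Subgroup.centralizer ({a'} : Set G) := Subgroup.mem_centralizer_singleton_iff.2 (by
    calc n⁻¹ * h * a' = n⁻¹ * (h * a' * h⁻¹) * h := by group
      _ = n⁻¹ * (n * a' * n⁻¹) * h := by rw [hne]
      _ = a' * (n⁻¹ * h) := by group)
  have hhM : h ∈ e.M := by
    have := e.M.mul_mem (e.NS_le hn) (e.hCM a' hmE hm1 hc)
    rwa [mul_inv_cancel_left] at this
  have := e.M.mul_mem (e.M.mul_mem (e.M.inv_mem hk) hhM) hm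
  rwa [hh, show k⁻¹ * (k * g * m⁻¹) * m = g by group] at this

theorem exists_outside : ∃ t : G, orderOf t = 2 ∧ t ∉ e.M := by
  by_contra hno
  push Not at hno
  obtain ⟨a, ha, ha1⟩ := e.exists_E
  refine e.hMt (eq_top_iff.2 fun g _ => e.se1 (e.order_two ha ha1) (hno a (e.order_two ha ha1)) (hno _ ?_))
  rw [show g * a * g⁻¹ = (MulAut.conj g) a from rfl, MulEquiv.orderOf_eq, e.order_two ha ha1]

omit [Finite G] hpf in
theorem conj_inv_of_mul_self {s t : G} (hs : s * s = 1) (ht : t * t = 1) :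
    s * (s * t) * s⁻¹ = (s * t)⁻¹ := by
  rw [mul_inv_rev, inv_eq_of_mul_eq_one_right hs, inv_eq_of_mul_eq_one_right ht, ← mul_assoc, hs, one_mul]

omit [Finite G] hpf in
theorem mul_self_of_order {a : G} (ha : orderOf a = 2) : a * a = 1 := by
  rw [← pow_two, ← ha, pow_orderOf_eq_one]

theorem conj_out {a t : G} (ha : orderOf a = 2) (haM : a ∈ e.M) (ht : orderOf t = 2) (htM : t ∉ e.M) :
    IsConj a t := by
  have ha' := mul_self_of_order ha
  have ht' := mul_self_of_order ht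
  set d := a * t with hd
  have hinv : a * d * a⁻¹ = d⁻¹ := conj_inv_of_mul_self ha' ht'
  have hodd : Odd (orderOf d) := by
    by_contra heven
    rw [Nat.not_odd_iff_even, even_iff_two_dvd] at heven
    set z := d ^ (orderOf d / 2) with hz
    have hzo : orderOf z = 2 := orderOf_pow_orderOf_div (orderOf_pos d).ne' heven
    have hza : z * a = a * z := by
      have h1 : a * z * a⁻¹ = z⁻¹ := by rw [hz, ← conj_pow, hinv, inv_pow]
      rw [inv_eq_of_mul_eq_one_right (mul_self_of_order hzo)] at h1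
      calc z * a = a * z * a⁻¹ * a := by rw [h1]
        _ = a * z := by group
    have hzM : z ∈ e.M := e.cent_le ha haM (Subgroup.mem_centralizer_singleton_iff.2 hza)
    refine htM (e.cent_le hzo hzM (Subgroup.mem_centralizer_singleton_iff.2 ?_))
    have hzd : z * d = d * z := ((Commute.refl d).pow_left _).eq
    have : t = a * d := by rw [hd, ← mul_assoc, ha', one_mul]
    rw [this, mul_assoc, ← hzd, ← mul_assoc, ← hza, mul_assoc]
  obtain ⟨k, hk⟩ := hodd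
  refine isConj_iff.mpr ⟨d ^ k, ?_⟩
  have hpow : a * (d ^ k)⁻¹ = d ^ k * a := by
    have h1 : a * d ^ k * a⁻¹ = (d ^ k)⁻¹ := by rw [← conj_pow, hinv, inv_pow]
    rw [← h1, inv_eq_of_mul_eq_one_right ha', ← mul_assoc, ← mul_assoc, ha', one_mul]
  calc d ^ k * a * (d ^ k)⁻¹ = d ^ k * (a * (d ^ k)⁻¹) := by rw [mul_assoc]
    _ = d ^ k * (d ^ k * a) := by rw [hpow]
    _ = d⁻¹ * a := by
      rw [← mul_assoc, ← pow_add]
      congr 1
      refine eq_inv_of_mul_eq_one_left ?_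
      rw [← pow_succ, show k + k + 1 = 2 * k + 1 by omega, ← hk, pow_orderOf_eq_one]
    _ = t := by
      rw [hd, mul_inv_rev, inv_eq_of_mul_eq_one_right ha', inv_eq_of_mul_eq_one_right ht', mul_assoc,
        ha', mul_one]

theorem transitive {a b : G} (ha : a ∈ om 2 e.S) (ha1 : a ≠ 1) (hb : b ∈ om 2 e.S) (hb1 : b ≠ 1) :
    ∃ n ∈ Subgroup.normalizer (e.S : Set G), n * a * n⁻¹ = b := by
  obtain ⟨t, ht, htM⟩ := e.exists_outside
  have h := (e.conj_out (e.order_two ha ha1) (e.S_le (om_le ha)) ht htM).trans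
    (e.conj_out (e.order_two hb hb1) (e.S_le (om_le hb)) ht htM).symm
  obtain ⟨g, hg⟩ := isConj_iff.1 h
  obtain ⟨n, hn, hne⟩ := Fusion.fusion_of_abelian e.hS e.hSc (om_le ha) (g := g) (hg ▸ om_le hb)
  exact ⟨n, hn, hne.trans hg⟩

omit [Finite G] hpf in
theorem arith {p k n : ℕ} (hp : 5 ≤ p) (hn : 3 ≤ n) (h : p ^ k + 1 = 2 ^ n) : k = 1 := by
  have hodd : p % 2 = 1 := by
    rcases Nat.eq_zero_or_pos k with rfl | hk
    · have : 2 ^ 3 ≤ 2 ^ n := Nat.pow_le_pow_right (by norm_num) hn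
      rw [pow_zero] at h; omega
    · have h1 : 2 ∣ p ^ k + 1 := h ▸ dvd_pow_self 2 (by omega)
      by_contra hne
      have h2 : 2 ∣ p ^ k := (Nat.dvd_of_mod_eq_zero (by omega)).trans (dvd_pow_self p hk.ne')
      omega
  rcases Nat.even_or_odd k with ⟨j, rfl⟩ | ⟨i, rfl⟩
  · -- a square is not `-1` mod `4`
    exfalso
    rw [← two_mul, pow_mul'] at h
    obtain ⟨m, hm⟩ : ∃ m, p ^ j = 2 * m + 1 := ⟨p ^ j / 2, by
      have : p ^ j % 2 = 1 := by simp [Nat.pow_mod, hodd]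
      omega⟩
    have h4 : 4 ∣ 2 ^ n := by
      rw [show (4 : ℕ) = 2 ^ 2 by norm_num]; exact pow_dvd_pow 2 (by omega)
    rw [hm, show (2 * m + 1) ^ 2 = 4 * (m * m + m) + 1 by ring] at h
    omega
  by_contra hi
  have key : ∀ i : ℕ, ∃ t : ℤ, (p : ℤ) ^ (2 * i + 1) + 1 =
      (2 * i + 1 : ℤ) * (p + 1) + t * (p + 1) ^ 2 := by
    intro i
    induction i with
    | zero => exact ⟨0, by simp⟩
    | succ i ih =>
      obtain ⟨t, ht⟩ := ih
      set q : ℤ := (p : ℤ) + 1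
      set a : ℤ := 2 * (i : ℤ) + 1
      refine ⟨-1 + a * q - 2 * a + t * (q - 1) ^ 2, ?_⟩
      have : (p : ℤ) ^ (2 * (i + 1) + 1) = (q - 1) ^ 2 * (a * q + t * q ^ 2 - 1) := by
        rw [← ht, show 2 * (i + 1) + 1 = (2 * i + 1) + 2 by ring, pow_add]; ring
      rw [this]; push_cast; ring
  obtain ⟨t, ht⟩ := key i
  have hpp : p + 1 ∣ p ^ (2 * i + 1) + 1 := by
    have : ((p + 1 : ℕ) : ℤ) ∣ ((p ^ (2 * i + 1) + 1 : ℕ) : ℤ) := by
      push_cast; rw [ht]; exact ⟨(2 * i + 1 : ℤ) + t * (p + 1), by ring⟩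
    exact_mod_cast this
  rw [h] at hpp
  obtain ⟨m, -, hm⟩ := (Nat.dvd_prime_pow Nat.prime_two).1 hpp
  have hbig : (p + 1) ^ 2 < 2 ^ n := by
    rw [← h]
    have h3 : p ^ 3 ≤ p ^ (2 * i + 1) := Nat.pow_le_pow_right (by omega) (by omega)
    nlinarith
  rw [hm, ← pow_mul] at hbig
  have hmn : m * 2 ≤ n := ((Nat.pow_lt_pow_iff_right (by norm_num)).1 hbig).le
  have hdvd : ((p : ℤ) + 1) ^ 2 ∣ (p : ℤ) ^ (2 * i + 1) + 1 := by
    have : (p + 1) ^ 2 ∣ p ^ (2 * i + 1) + 1 := by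
      rw [h, hm, ← pow_mul]; exact pow_dvd_pow 2 hmn
    exact_mod_cast this
  have h5 : ((p : ℤ) + 1) ∣ (2 * i + 1 : ℤ) := by
    have h6 : ((p : ℤ) + 1) * (p + 1) ∣ (2 * i + 1 : ℤ) * (p + 1) := by
      rw [← pow_two]
      have := dvd_sub hdvd (Dvd.intro_left t rfl : ((p : ℤ) + 1) ^ 2 ∣ t * (p + 1) ^ 2)
      rwa [ht, add_sub_cancel_right] at this
    exact Int.dvd_of_mul_dvd_mul_right (by omega) h6
  have h7 : p + 1 ∣ 2 * i + 1 := by exact_mod_cast h5
  have h8 : 2 ∣ 2 * i + 1 := (Nat.dvd_of_mod_eq_zero (by omega : (p + 1) % 2 = 0)).trans h7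
  omega

/-- `|E| = p + 1`. -/
theorem card_E : Nat.card (om 2 e.S) = p + 1 := by
  set N := Subgroup.normalizer (e.S : Set G)
  obtain ⟨a, ha, ha1⟩ := e.exists_E
  have hact : ∀ n : N, ∀ x : {x : om 2 e.S // x ≠ 1},
      (n : G) * x.1 * (n : G)⁻¹ ∈ om 2 e.S := fun n x => om_conj_mem e.hSc n.2 x.1.2
  letI : MulAction N {x : om 2 e.S // x ≠ 1} :=
    { smul := fun n x => ⟨⟨(n : G) * x.1 * (n : G)⁻¹, hact n x⟩, fun h => x.2 (Subtype.ext
        (conj_eq_one_iff.1 (congrArg Subtype.val h :)))⟩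
      one_smul := fun x => Subtype.ext (Subtype.ext (by
        show (1 : G) * x.1 * (1 : G)⁻¹ = x.1
        group))
      mul_smul := fun m n x => Subtype.ext (Subtype.ext (by
        show ((m : G) * n) * x.1 * ((m : G) * n)⁻¹ = (m : G) * ((n : G) * x.1 * (n : G)⁻¹) * (m : G)⁻¹
        group)) }
  set x₀ : {x : om 2 e.S // x ≠ 1} := ⟨⟨a, ha⟩, fun h => ha1 (congrArg Subtype.val h :)⟩
  haveI : MulAction.IsPretransitive N {x : om 2 e.S // x ≠ 1} := ⟨fun x y => by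
    obtain ⟨n, hn, hne⟩ := e.transitive x.1.2 (fun h => x.2 (Subtype.ext h)) y.1.2 (fun h => y.2 (Subtype.ext h))
    exact ⟨⟨n, hn⟩, Subtype.ext (Subtype.ext hne)⟩⟩
  set H := MulAction.stabilizer N x₀
  have hidx : H.index = Nat.card {x : om 2 e.S // x ≠ 1} := MulAction.index_stabilizer_of_transitive N x₀
  have hprimes : ∀ {q : ℕ}, q.Prime → q ∣ H.index → q = p := by
    intro q hq hqd
    by_contra hqp
    haveI := Fact.mk hq
    obtain ⟨Q⟩ : Nonempty (Sylow q N) := inferInstance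
    refine Q.not_dvd_index (hqd.trans (Subgroup.index_dvd_of_le fun n hn => ?_))
    have hco : (orderOf ((n : N) : G)).Coprime p := by
      rw [Subgroup.orderOf_coe]
      obtain ⟨k, hk⟩ := IsPGroup.iff_card.1 Q.isPGroup'
      exact (((Nat.coprime_primes hq hpf.out).2 hqp).pow_left k).coprime_dvd_left
        (hk ▸ Subgroup.orderOf_dvd_natCard _ hn)
    have hc := e.c.centralizes (coprime_of_isPGroup e.hp2 e.hS.isPGroup) hco n.2
    exact Subtype.ext (Subtype.ext (by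
      show (n : G) * a * (n : G)⁻¹ = a
      rw [← Subgroup.mem_centralizer_iff.1 hc a (om_le ha), mul_inv_cancel_right]))
  have hpow := Nat.eq_prime_pow_of_unique_prime_dvd Subgroup.index_ne_zero_of_finite hprimes
  set k := H.index.primeFactorsList.length
  obtain ⟨n, hn⟩ := IsPGroup.iff_card.1 (e.hS.isPGroup.to_le (om_le : om 2 e.S ≤ e.S))
  have hcard : Nat.card {x : om 2 e.S // x ≠ 1} + 1 = 2 ^ n := by
    classical
    rw [← hn, ← Finite.card_option]
    exact Nat.card_congr (Equiv.optionSubtypeNe (1 : om 2 e.S))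
  have h8 := e.card_E_ge
  rw [hn] at h8 ⊢
  have hn3 : 3 ≤ n := (Nat.pow_le_pow_iff_right (a := 2) (by norm_num)).1 (show 2 ^ 3 ≤ 2 ^ n from h8)
  rw [← hidx, hpow] at hcard
  rw [arith e.c.five_le hn3 hcard, pow_one] at hcard
  omega

/-- A proper subgroup with a four-group of `M` lies in `M`. -/
theorem le_M {X A : Subgroup G} (hX : X ≠ ⊤) (hA : Cfsg.IsElementaryAbelian 2 A) (h4 : 4 ≤ Nat.card A)
    (hAX : A ≤ X) (hAM : A ≤ e.M) : X ≤ e.M := by
  haveI := hA.1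
  have hord : ∀ a ∈ A, a ≠ 1 → orderOf a = 2 := fun a ha ha1 => orderOf_eq_prime (hA.2 a ha) ha1
  have hAp : IsPGroup 2 A := fun a => ⟨1, Subtype.ext (by simpa using hA.2 a a.2)⟩
  obtain ⟨T, hT, hAT⟩ := Fusion.exists_sylIn_ge hAp hAX
  have hTc : T ≤ Subgroup.centralizer (T : Set G) := e.c.le_centralizer (coprime_of_isPGroup e.hp2 hT.isPGroup)
  obtain ⟨a, haA, ha1⟩ : ∃ a ∈ A, a ≠ 1 := by
    by_contra hno
    push Not at hno
    rw [(Subgroup.eq_bot_iff_forall _).2 hno, Subgroup.card_bot] at h4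
    omega
  have hTM : T ≤ e.M := fun t ht => e.cent_le (hord a haA ha1) (hAM haA)
    (Subgroup.mem_centralizer_singleton_iff.2 (Subgroup.mem_centralizer_iff.1 (hTc (hAT haA)) t ht))
  have hncyc : ¬ IsCyclic A := by
    intro hc
    obtain ⟨g, hg⟩ := hc.exists_generator
    have h : orderOf g = Nat.card A := orderOf_eq_card_of_forall_mem_zpowers hg
    have h2 : orderOf g ∣ 2 := orderOf_dvd_of_pow_eq_one (Subtype.ext (by simpa using hA.2 g g.2))
    have := Nat.le_of_dvd (by norm_num) h2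
    omega
  have hO : coreOf 2 X ≤ e.M := by
    rw [← S0058.result A (coreOf 2 X) hncyc
      (hAX.trans (Subgroup.le_normalizer.trans (Terminal.le_normalizer_coreOf X))) (by
        obtain ⟨j, hj⟩ := IsPGroup.iff_card.1 hAp
        exact hj ▸ (Terminal.coreOf_coprime X).symm.pow_left j)]
    exact iSup₂_le fun b hb => inf_le_right.trans (e.cent_le (hord b hb.1 hb.2) (hAM hb.1))
  intro x hx
  obtain ⟨o, ho, n, -, hn, rfl⟩ := core_frattini (e.c.sub_solvable hX) hT hTc hx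
  exact e.M.mul_mem (hO ho) (e.se1 (hord a haA ha1) (hAM haA)
    (hTM ((Subgroup.mem_normalizer_iff.1 hn a).1 (hAT haA))))

end Ev

end Cfsg.Agent.PPrimeAbelian
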