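import Cfsg.Agent.Lib.Lead.PPrimeAbelian.Local
import Cfsg.Agent.Lib.Fusion.SolvableBalance
import Cfsg.Agent.Lib.Fusion.TerminalBasics
import Cfsg.Agent.Lib.SSF.Main
import Cfsg.Agent.S0058

/-!
Even order: the subgroup containing the centralisers of the involutions of a Sylow 2-subgroup.
-/

set_option autoImplicit false
set_option linter.style.haveILetI false

namespace Cfsg.Agent.PPrimeAbelian

open Cfsg.Agent.Fusion (SylIn cj)
open Cfsg.Agent.Terminal (coreOf)

universe u

variable {G : Type u} [Group G] [Finite G] {p : ℕ} [hpf : Fact p.Prime]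

section General

variable {q : ℕ} [Fact q.Prime]

omit hpf in
/-- In a solvable group with abelian Sylow `q`-subgroup `T`, `O_{q'} T` is normal. -/
theorem core_sylow_normal {X : Type u} [Group X] [Finite X] (hs : Group.IsSolvable X) {T : Subgroup X}
    (hT : SylIn q T ⊤) (hTc : T ≤ Subgroup.centralizer (T : Set X)) :
    (Cfsg.pPrimeCore q X ⊔ T).Normal := by
  set N := Cfsg.pPrimeCore q X
  set π := QuotientGroup.mk' N
  haveI := hs
  haveI : Group.IsSolvable (X ⧸ N) := Group.isSolvable_of_surjective (QuotientGroup.mk'_surjective N)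
  have hc := Fusion.centralizer_pCore_le_of_solvable (p := q) (G := X ⧸ N) inferInstance
    Fusion.pPrimeCore_quotient_eq_bot
  have hT' := Fusion.sylIn_map_mk (N := N) hT
  have h1 : Cfsg.pCore q (X ⧸ N) ≤ T.map π := Fusion.pCore_le_sylIn hT'
  have h2 : T.map π ≤ Subgroup.centralizer (T.map π : Set (X ⧸ N)) := by
    rintro _ ⟨a, ha, rfl⟩
    rw [Subgroup.mem_centralizer_iff]
    rintro _ ⟨b, hb, rfl⟩
    rw [← map_mul, ← map_mul, Subgroup.mem_centralizer_iff.1 (hTc ha) b hb]
  have he : T.map π = Cfsg.pCore q (X ⧸ N) :=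
    le_antisymm ((h2.trans (Subgroup.centralizer_le h1)).trans hc) h1
  rw [show N ⊔ T = (T.map π).comap π by rw [QuotientGroup.comap_map_mk', sup_comm]]
  rw [he]
  exact Subgroup.Normal.comap inferInstance π

omit hpf in
/-- The Frattini decomposition. -/
theorem core_frattini {X T : Subgroup G} (hs : Group.IsSolvable X) (hT : SylIn q T X)
    (hTc : T ≤ Subgroup.centralizer (T : Set G)) {x : G} (hx : x ∈ X) :
    ∃ o ∈ coreOf q X, ∃ n ∈ X, n ∈ Subgroup.normalizer (T : Set G) ∧ x = o * n := by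
  obtain ⟨P, hP⟩ := hT.exists_sylow_subgroupOf
  have hPc : (P : Subgroup X) ≤ Subgroup.centralizer ((P : Subgroup X) : Set X) := by
    rw [hP]
    exact fun a ha => Subgroup.mem_centralizer_iff.2 fun b hb =>
      Subtype.ext (Subgroup.mem_centralizer_iff.1 (hTc ha) b hb)
  have hN := core_sylow_normal hs (Fusion.sylIn_top P) hPc
  set H := Cfsg.pPrimeCore q X ⊔ (P : Subgroup X) with hH
  haveI := hN
  have hPH : SylIn q (P : Subgroup X) H := ⟨le_sup_right, P.isPGroup', fun h =>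
    P.not_dvd_index (h.trans (Subgroup.relIndex_dvd_index_of_le le_sup_right))⟩
  have hP' := hPH.cj' (g := (⟨x, hx⟩ : X)) (by rw [Subgroup.normalizer_eq_top_iff.2 hN]; exact Subgroup.mem_top _)
  obtain ⟨h, hh, he⟩ := hP'.conj_eq hPH
  rw [Fusion.cj_cj] at he
  have hnN : h * ⟨x, hx⟩ ∈ Subgroup.normalizer ((P : Subgroup X) : Set X) :=
    Fusion.mem_normalizer_iff_cj.2 he
  obtain ⟨o, ho, t, ht, hot⟩ := Subgroup.mem_sup_of_normal_left.1 (inv_mem hh : h⁻¹ ∈ H)
  set n : X := t * (h * ⟨x, hx⟩)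
  have hn : n ∈ Subgroup.normalizer ((P : Subgroup X) : Set X) :=
    Subgroup.mul_mem _ (Subgroup.le_normalizer ht) hnN
  refine ⟨o, ⟨o, ho, rfl⟩, n, n.2, ?_, ?_⟩
  · have := Subgroup.le_normalizer_map X.subtype ⟨n, hn, rfl⟩
    rwa [hP, Subgroup.map_subgroupOf_eq_of_le hT.le] at this
  · have : (⟨x, hx⟩ : X) = o * n := by
      show _ = o * (t * (h * ⟨x, hx⟩))
      rw [← mul_assoc o t, hot, inv_mul_cancel_left]
    exact congrArg Subtype.val this

omit hpf [Fact q.Prime] in
theorem coreOf_cj_le (A : Subgroup G) (g : G) : cj (coreOf q A) g ≤ coreOf q (cj A g) := by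
  have hle : cj (coreOf q A) g ≤ cj A g := Fusion.cj_mono (Terminal.coreOf_le A) g
  haveI : ((cj (coreOf q A) g).subgroupOf (cj A g)).Normal := ⟨fun z hz w => by
    have hw : (w : G) ∈ Subgroup.normalizer (cj (coreOf q A) g : Set G) := by
      rw [← Fusion.cj_normalizer]
      exact Fusion.cj_mono (Subgroup.le_normalizer.trans (Terminal.le_normalizer_coreOf A)) g w.2
    exact (Subgroup.mem_normalizer_iff.1 hw _).1 hz⟩
  intro y hy
  refine ⟨⟨y, hle hy⟩, Fusion.le_pPrimeCore (N := (cj (coreOf q A) g).subgroupOf (cj A g)) ?_ hy, rfl⟩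
  rw [Nat.card_congr (Subgroup.subgroupOfEquivOfLe hle).toEquiv, Fusion.card_cj]
  exact Terminal.coreOf_coprime A

end General

theorem Crit.exists_control (c : Crit p G) {S : Subgroup G} (hp2 : 2 ≠ p) (hS : SylIn 2 S ⊤)
    (h2 : 2 ∣ Nat.card G) :
    ∃ M : Subgroup G, M ≠ ⊤ ∧ Subgroup.normalizer (om 2 S : Set G) ≤ M ∧
      ∀ a ∈ om 2 S, a ≠ 1 → Subgroup.centralizer ({a} : Set G) ≤ M := by
  have hSc := c.sylow_comm hp2 hS
  set E := om 2 S with hE
  have hEc := c.om_card hp2 hS h2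
  have hEe := om_elementary (r := 2) hSc
  have hSC : ∀ a ∈ E, S ≤ Subgroup.centralizer ({a} : Set G) := fun a ha s hs =>
    Subgroup.mem_centralizer_singleton_iff.2 (Subgroup.mem_centralizer_iff.1 (hSc (om_le ha)) s hs)
  have hsol : ∀ a : G, a ≠ 1 → Group.IsSolvable (Subgroup.centralizer ({a} : Set G)) := fun a ha =>
    c.sub_solvable (c.centralizer_ne_top ha)
  set θ : G → Subgroup G := fun a => coreOf 2 (Subgroup.centralizer ({a} : Set G)) with hθ
  have hzp : ∀ a ∈ E, IsPGroup 2 (Subgroup.zpowers a) := fun a ha =>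
    hS.isPGroup.to_le (Subgroup.zpowers_le.2 (om_le ha))
  have hfun : Cfsg.IsSolvableSignalizerFunctor 2 E θ := by
    refine ⟨⟨fun a _ _ => Terminal.coreOf_le _, fun a _ _ h => ?_, fun a ha _ b hb x hx => ?_,
      fun a ha _ b hb hb1 => ?_⟩, fun a _ ha1 => ?_⟩
    · exact Nat.prime_two.coprime_iff_not_dvd.1 (Terminal.coreOf_coprime _).symm h
    · exact (Subgroup.mem_normalizer_iff.1 (Terminal.le_normalizer_coreOf _
        (Subgroup.le_normalizer (hSC a ha (om_le hb)))) x).1 hx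
    · exact Fusion.centralizerPPrimeCore_inf_le (hzp a ha)
        (Subgroup.mem_centralizer_iff.1 (hSc (om_le hb)) a (om_le ha)) (hsol b hb1)
    · haveI := hsol a ha1
      exact Group.isSolvable_of_isSolvable_injective
        (f := Subgroup.inclusion (Terminal.coreOf_le (Subgroup.centralizer ({a} : Set G))))
        (Subgroup.inclusion_injective _)
  obtain ⟨⟨hWs, hWo, -, -⟩, -⟩ := SSF.complete hEe hEc hfun
  set W := ⨆ a : {a : G // a ∈ E ∧ a ≠ 1}, θ a with hW
  have hNW : Subgroup.normalizer (E : Set G) ≤ Subgroup.normalizer (W : Set G) := fun n hn =>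
    Fusion.mem_normalizer_of_cj_le (by
      rw [hW, cj, Subgroup.map_iSup]
      refine iSup_le fun a => ?_
      refine (coreOf_cj_le _ n).trans ?_
      refine le_trans ?_ (le_iSup (fun b : {a : G // a ∈ E ∧ a ≠ 1} => θ b)
        ⟨n * a * n⁻¹, (Subgroup.mem_normalizer_iff.1 hn _).1 a.2.1, fun h => a.2.2 (conj_eq_one_iff.1 h)⟩)
      refine le_of_eq (congrArg (coreOf 2) ?_)
      ext y
      rw [Fusion.mem_cj, Subgroup.mem_centralizer_singleton_iff, Subgroup.mem_centralizer_singleton_iff]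
      constructor
      · intro h
        calc y * (n * a * n⁻¹) = n * ((n⁻¹ * y * n) * a) * n⁻¹ := by group
          _ = n * (a * (n⁻¹ * y * n)) * n⁻¹ := by rw [h]
          _ = n * a * n⁻¹ * y := by group
      · intro h
        calc n⁻¹ * y * n * a = n⁻¹ * (y * (n * a * n⁻¹)) * n := by group
          _ = n⁻¹ * (n * a * n⁻¹ * y) * n := by rw [h]
          _ = a * (n⁻¹ * y * n) := by group)
  have hdec : ∀ a ∈ E, a ≠ 1 → ∀ x ∈ Subgroup.centralizer ({a} : Set G),
      ∃ o ∈ θ a, ∃ n ∈ Subgroup.normalizer (E : Set G), x = o * n := fun a ha ha1 x hx => by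
    obtain ⟨o, ho, n, -, hn, he⟩ := core_frattini (hsol a ha1) (q := 2)
      (hS.mono (hSC a ha) le_top) hSc hx
    exact ⟨o, ho, n, normalizer_le_normalizer_om hSc hn, he⟩
  by_cases hWb : W = ⊥
  · refine ⟨Subgroup.normalizer (E : Set G), ?_, le_rfl, fun a ha ha1 x hx => ?_⟩
    · refine c.normalizer_ne_top (fun h => ?_) fun h => c.not_solvable ?_
      · rw [← hE, h, Subgroup.card_bot] at hEc
        norm_num at hEc
      · have hc : IsMulCommutative E := hEe.1
        rw [h] at hc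
        exact Group.isSolvable_of_comm fun a b => congrArg Subtype.val
          (hc.is_comm.comm ⟨a, Subgroup.mem_top a⟩ ⟨b, Subgroup.mem_top b⟩)
    · obtain ⟨o, ho, n, hn, rfl⟩ := hdec a ha ha1 x hx
      have : θ a = ⊥ := le_bot_iff.1 ((le_iSup (fun b : {a : G // a ∈ E ∧ a ≠ 1} => θ b) ⟨a, ha, ha1⟩).trans hWb.le)
      rw [this, Subgroup.mem_bot] at ho
      rwa [ho, one_mul]
  · refine ⟨Subgroup.normalizer (W : Set G), c.normalizer_ne_top hWb fun h => hWo ?_, hNW, fun a ha ha1 x hx => ?_⟩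
    · rw [h, Subgroup.card_top]; exact h2
    · obtain ⟨o, ho, n, hn, rfl⟩ := hdec a ha ha1 x hx
      exact Subgroup.mul_mem _ (Subgroup.le_normalizer
        ((le_iSup (fun b : {a : G // a ∈ E ∧ a ≠ 1} => θ b) ⟨a, ha, ha1⟩) ho)) (hNW hn)

end Cfsg.Agent.PPrimeAbelian
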