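import Cfsg.Agent.Lib.Lead.PPrimeAbelian.Basic
import Cfsg.Agent.Lib.Fusion.Basic
import Cfsg.Agent.Lib.Solv.Parts
import Cfsg.Agent.Lib.Solv.Coprime
import Cfsg.Agent.S0056

/-!
Sylow subgroups of a minimal counterexample for primes other than `p`.
-/

set_option autoImplicit false
set_option linter.style.haveILetI false

namespace Cfsg.Agent.PPrimeAbelian

open Cfsg.Agent.Fusion (SylIn cj)

universe u

variable {G : Type u} [Group G] [Finite G] {p : ℕ} [hpf : Fact p.Prime]

theorem Crit.not_solvable (c : Crit p G) : ¬ Group.IsSolvable G := fun h => by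
  haveI := c.ms.1
  haveI := h
  exact c.ms.2.1 ⟨⟨fun a b => IsSimpleGroup.comm_iff_isSolvable.2 h a b⟩⟩

theorem Crit.five_le (c : Crit p G) : 5 ≤ p := five_le_of_not_solvable c.hp c.not_solvable

theorem Crit.sub_solvable (c : Crit p G) {H : Subgroup G} (hH : H ≠ ⊤) : Group.IsSolvable H :=
  c.ms.2.2 H hH

theorem Crit.normalizer_ne_top (c : Crit p G) {H : Subgroup G} (h1 : H ≠ ⊥) (h2 : H ≠ ⊤) :
    Subgroup.normalizer (H : Set G) ≠ ⊤ := fun h => by
  haveI := c.ms.1
  exact (Subgroup.normalizer_eq_top_iff.1 h).eq_bot_or_eq_top.elim h1 h2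

theorem Crit.center_eq_bot (c : Crit p G) : Subgroup.center G = ⊥ := by
  haveI := c.ms.1
  refine (inferInstance : (Subgroup.center G).Normal).eq_bot_or_eq_top.resolve_right fun h => ?_
  exact c.ms.2.1 ⟨⟨fun x y => (Subgroup.mem_center_iff.1 (h ▸ Subgroup.mem_top x) y).symm⟩⟩

theorem Crit.centralizer_ne_top (c : Crit p G) {b : G} (hb : b ≠ 1) :
    Subgroup.centralizer ({b} : Set G) ≠ ⊤ := fun h => hb (Subgroup.mem_bot.1
  (c.center_eq_bot ▸ Subgroup.mem_center_iff.2 fun g =>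
    Subgroup.mem_centralizer_singleton_iff.1 (h ▸ Subgroup.mem_top g)))

omit [Finite G] hpf in
/-- A `p'`-subgroup is abelian. -/
theorem Crit.comm (c : Crit p G) {H : Subgroup G} (hH : (Nat.card H).Coprime p) {a b : G}
    (ha : a ∈ H) (hb : b ∈ H) : a * b = b * a :=
  congrArg Subtype.val ((c.hp H hH).1.is_comm.comm ⟨a, ha⟩ ⟨b, hb⟩)

omit [Finite G] hpf in
theorem Crit.le_centralizer (c : Crit p G) {H : Subgroup G} (hH : (Nat.card H).Coprime p) :
    H ≤ Subgroup.centralizer (H : Set G) := fun _ ha =>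
  Subgroup.mem_centralizer_iff.2 fun _ hb => c.comm hH hb ha

omit [Finite G] in
theorem coprime_of_isPGroup [Finite G] {r : ℕ} [hr : Fact r.Prime] (hrp : r ≠ p) {R : Subgroup G}
    (hR : IsPGroup r R) : (Nat.card R).Coprime p := by
  obtain ⟨k, hk⟩ := IsPGroup.iff_card.1 hR
  exact hk ▸ ((Nat.coprime_primes hr.out hpf.out).2 hrp).pow_left k

theorem Crit.prime_facts (c : Crit p G) {r : ℕ} (hr : r.Prime) (hrp : r ≠ p)
    (hd : r ∣ Nat.card G) : r ∣ p - 1 ∧ r + 1 < p := by
  haveI := Fact.mk hr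
  obtain ⟨x, hx⟩ := exists_prime_orderOf_dvd_card' r hd
  have hco : (Nat.card (Subgroup.zpowers x)).Coprime p := by
    rw [Nat.card_zpowers, hx]; exact (Nat.coprime_primes hr hpf.out).2 hrp
  have h1 : r ∣ p - 1 := hx ▸ orderOf_dvd_of_pow_eq_one ((c.hp _ hco).2 x (Subgroup.mem_zpowers x))
  have h5 := c.five_le
  have h2 := Nat.le_of_dvd (by omega) h1
  refine ⟨h1, ?_⟩
  by_contra hlt
  have he : p = r + 1 := by omega
  rcases hr.eq_two_or_odd with h | h
  · omega
  · rcases hpf.out.eq_two_or_odd with h' | h' <;> omega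

variable {r : ℕ} [hrf : Fact r.Prime] {R : Subgroup G}

theorem Crit.sylow_comm (c : Crit p G) (hrp : r ≠ p) (hR : SylIn r R ⊤) :
    R ≤ Subgroup.centralizer (R : Set G) :=
  c.le_centralizer (coprime_of_isPGroup hrp hR.isPGroup)

omit [Finite G] hpf hrf in
theorem sylow_ne_bot [Finite G] [Fact r.Prime] (hR : SylIn r R ⊤) (hd : r ∣ Nat.card G) : R ≠ ⊥ := by
  intro h
  refine hR.not_dvd ?_
  rw [h, Subgroup.relIndex_bot_left, Subgroup.card_top]
  exact hd

/-- A `p'`-element normalising a `p'`-subgroup centralises it. -/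
theorem Crit.centralizes (c : Crit p G) {K : Subgroup G} (hK : (Nat.card K).Coprime p) {v : G}
    (hv : (orderOf v).Coprime p) (hvK : v ∈ Subgroup.normalizer (K : Set G)) :
    v ∈ Subgroup.centralizer (K : Set G) := by
  set Z := Subgroup.zpowers v
  have hZK : Z ≤ Subgroup.normalizer (K : Set G) := Subgroup.zpowers_le.2 hvK
  have hco : (Nat.card (K ⊔ Z : Subgroup G)).Coprime p := by
    refine Nat.Coprime.coprime_dvd_left ?_ (Nat.Coprime.mul_left hK hv)
    rw [← Nat.card_zpowers]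
    exact (Dvd.intro _ (Solv.card_sup_mul_card_inf' K Z hZK))
  exact Subgroup.mem_centralizer_iff.2 fun k hk =>
    c.comm hco (Subgroup.mem_sup_left hk) (Subgroup.mem_sup_right (Subgroup.mem_zpowers v))

/-- Some `p`-element normalises but does not centralise `R`. -/
theorem Crit.exists_mover (c : Crit p G) (hrp : r ≠ p) (hR : SylIn r R ⊤) (hd : r ∣ Nat.card G) :
    ∃ y ∈ Subgroup.normalizer (R : Set G), IsPGroup p (Subgroup.zpowers y) ∧
      y ∉ Subgroup.centralizer (R : Set G) := by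
  by_contra hno
  push Not at hno
  have hNC : Subgroup.normalizer (R : Set G) ≤ Subgroup.centralizer (R : Set G) := fun g hg => by
    obtain ⟨u, v, hu, hv, huv, ⟨k, hk⟩, hvo⟩ := Solv.exists_ppart p g
    rw [← huv]
    refine Subgroup.mul_mem _ (hno u (Subgroup.zpowers_le.2 hg hu) (Solv.isPGroup_zpowers hk)) ?_
    exact c.centralizes (coprime_of_isPGroup hrp hR.isPGroup) hvo (Subgroup.zpowers_le.2 hg hv)
  obtain ⟨P, rfl⟩ := hR.exists_sylow
  have hc := MonoidHom.ker_transferSylow_isComplement' P hNC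
  haveI := c.ms.1
  rcases (inferInstance : (MonoidHom.transferSylow P hNC).ker.Normal).eq_bot_or_eq_top with h | h
  · rw [h, Subgroup.isComplement'_bot_left] at hc
    refine c.not_solvable ?_
    haveI : Group.IsSolvable (P : Subgroup G) := by
      haveI := P.isPGroup'.isNilpotent
      infer_instance
    rw [hc] at *
    exact Group.isSolvable_of_surjective (f := (⊤ : Subgroup G).subtype)
      (fun g => ⟨⟨g, Subgroup.mem_top g⟩, rfl⟩)
  · rw [h, Subgroup.isComplement'_top_left] at hc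
    exact sylow_ne_bot hR hd hc

/-- The elements of exponent `r` of `R`. -/
def om (r : ℕ) (R : Subgroup G) : Subgroup G := Subgroup.closure {x | x ∈ R ∧ x ^ r = 1}

omit [Finite G] hpf hrf in
theorem om_le : om r R ≤ R := (Subgroup.closure_le _).2 fun _ hx => hx.1

omit [Finite G] hpf hrf in
theorem mem_om (hRc : R ≤ Subgroup.centralizer (R : Set G)) {x : G} :
    x ∈ om r R ↔ x ∈ R ∧ x ^ r = 1 := by
  refine ⟨fun hx => ?_, fun hx => Subgroup.subset_closure hx⟩
  induction hx using Subgroup.closure_induction with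
  | mem x hx => exact hx
  | one => exact ⟨one_mem _, one_pow _⟩
  | mul a b _ _ ha hb =>
    refine ⟨mul_mem ha.1 hb.1, ?_⟩
    rw [(show Commute a b from Subgroup.mem_centralizer_iff.1 (hRc hb.1) a ha.1).mul_pow, ha.2, hb.2,
      one_mul]
  | inv a _ ha => exact ⟨inv_mem ha.1, by rw [inv_pow, ha.2, inv_one]⟩

omit [Finite G] hpf hrf in
theorem om_elementary (hRc : R ≤ Subgroup.centralizer (R : Set G)) :
    Cfsg.IsElementaryAbelian r (om r R) := by
  refine ⟨⟨⟨fun a b => Subtype.ext ?_⟩⟩, fun a ha => ((mem_om hRc).1 ha).2⟩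
  exact (Subgroup.mem_centralizer_iff.1 (hRc (om_le b.2)) a (om_le a.2))

omit [Finite G] hpf hrf in
theorem om_conj_mem (hRc : R ≤ Subgroup.centralizer (R : Set G)) {n : G}
    (hn : n ∈ Subgroup.normalizer (R : Set G)) {x : G} (hx : x ∈ om r R) : n * x * n⁻¹ ∈ om r R := by
  obtain ⟨h1, h2⟩ := (mem_om hRc).1 hx
  exact (mem_om hRc).2 ⟨(Subgroup.mem_normalizer_iff.1 hn x).1 h1, by rw [conj_pow, h2]; group⟩

omit [Finite G] hpf hrf in
theorem normalizer_le_normalizer_om [Finite G] (hRc : R ≤ Subgroup.centralizer (R : Set G)) :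
    Subgroup.normalizer (R : Set G) ≤ Subgroup.normalizer (om r R : Set G) := fun n hn =>
  Fusion.mem_normalizer_of_cj_le (by
    rintro _ ⟨x, hx, rfl⟩
    exact om_conj_mem hRc hn hx)

theorem Crit.mover_om (c : Crit p G) (hrp : r ≠ p) (hR : SylIn r R ⊤) (hd : r ∣ Nat.card G) :
    ∃ y ∈ Subgroup.normalizer (R : Set G), IsPGroup p (Subgroup.zpowers y) ∧
      ∃ v ∈ om r R, y * v ≠ v * y := by
  have hRc := c.sylow_comm hrp hR
  obtain ⟨y, hy, hyp, hyC⟩ := c.exists_mover hrp hR hd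
  refine ⟨y, hy, hyp, ?_⟩
  by_contra hno
  push Not at hno
  haveI : IsMulCommutative R := ⟨⟨fun a b => Subtype.ext
    (Subgroup.mem_centralizer_iff.1 (hRc b.2) a a.2)⟩⟩
  refine hyC (S0056.result (Subgroup.zpowers y) R (Subgroup.zpowers_le.2 hy) ?_ ?_ (Subgroup.mem_zpowers y))
  · obtain ⟨i, hi⟩ := IsPGroup.iff_card.1 hyp
    obtain ⟨j, hj⟩ := IsPGroup.iff_card.1 hR.isPGroup
    rw [hi, hj]
    exact ((Nat.coprime_primes hpf.out hrf.out).2 (Ne.symm hrp)).pow i j
  · intro v hv hvp a ha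
    obtain ⟨j, hj⟩ := IsPGroup.iff_card.1 hR.isPGroup
    have hvr : orderOf v = r := (Nat.prime_dvd_prime_iff_eq hvp hrf.out).1
      (hvp.dvd_of_dvd_pow (hj ▸ Subgroup.orderOf_dvd_natCard R hv))
    have h1 : v * y = y * v := (hno v ((mem_om hRc).2 ⟨hv, hvr ▸ pow_orderOf_eq_one v⟩)).symm
    exact ((Subgroup.mem_centralizer_singleton_iff.1 ((Subgroup.zpowers_le.2
      (Subgroup.mem_centralizer_singleton_iff.2 h1.symm)) ha : a ∈ Subgroup.centralizer {v})))

omit [Finite G] hrf in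
/-- A `p`-element acting nontrivially gives a congruence. -/
theorem fixed_congr [Finite G] {E : Subgroup G} {y : G} (hyp : IsPGroup p (Subgroup.zpowers y))
    (hy : y ∈ Subgroup.normalizer (E : Set G)) :
    Nat.card E ≡ Nat.card ↥(E ⊓ Subgroup.centralizer ({y} : Set G)) [MOD p] := by
  have hn : ∀ a : Subgroup.zpowers y, ∀ x : E, (a : G) * x * (a : G)⁻¹ ∈ E := fun a x =>
    (Subgroup.mem_normalizer_iff.1 (Subgroup.zpowers_le.2 hy a.2) _).1 x.2
  letI : MulAction (Subgroup.zpowers y) E :=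
    { smul := fun a x => ⟨(a : G) * x * (a : G)⁻¹, hn a x⟩
      one_smul := fun x => Subtype.ext (by show (1 : G) * x * (1 : G)⁻¹ = x; group)
      mul_smul := fun a b x => Subtype.ext (by
        show ((a : G) * b) * x * ((a : G) * b)⁻¹ = (a : G) * ((b : G) * x * (b : G)⁻¹) * (a : G)⁻¹
        group) }
  refine (hyp.card_modEq_card_fixedPoints E).trans (congrArg (· % p) (Nat.card_congr ?_))
  exact
    { toFun := fun x => ⟨(x.1 : G), x.1.2, Subgroup.mem_centralizer_singleton_iff.2 (by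
        have h : y * (x.1 : G) * y⁻¹ = x.1 := congrArg Subtype.val (x.2 ⟨y, Subgroup.mem_zpowers y⟩ :)
        calc (x.1 : G) * y = y * x.1 * y⁻¹ * y := by rw [h]
          _ = y * x.1 := by group)⟩
      invFun := fun x => ⟨⟨x.1, x.2.1⟩, fun a => Subtype.ext (by
        show (a : G) * (x : G) * (a : G)⁻¹ = x
        have h : (a : G) * x = x * a := Subgroup.mem_centralizer_singleton_iff.1 ((Subgroup.zpowers_le.2
          (Subgroup.mem_centralizer_singleton_iff.2
            (Subgroup.mem_centralizer_singleton_iff.1 x.2.2).symm)) a.2 : (a : G) ∈ Subgroup.centralizer {(x : G)})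
        rw [h, mul_inv_cancel_right])⟩
      left_inv := fun x => rfl
      right_inv := fun x => rfl }

/-- The rank of `R` is at least three. -/
theorem Crit.om_card (c : Crit p G) (hrp : r ≠ p) (hR : SylIn r R ⊤) (hd : r ∣ Nat.card G) :
    r ^ 3 ≤ Nat.card (om r R) := by
  have hRc := c.sylow_comm hrp hR
  obtain ⟨y, hy, hyp, v, hv, hne⟩ := c.mover_om hrp hR hd
  set E := om r R
  have hEp : IsPGroup r E := hR.isPGroup.to_le om_le
  have hF : E ⊓ Subgroup.centralizer ({y} : Set G) < E := lt_of_le_of_ne inf_le_left fun h =>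
    hne (Subgroup.mem_centralizer_singleton_iff.1 (h.symm ▸ hv : v ∈ E ⊓ Subgroup.centralizer {y}).2).symm
  obtain ⟨n, hn⟩ := IsPGroup.iff_card.1 hEp
  obtain ⟨j, hj⟩ := IsPGroup.iff_card.1 (hEp.to_le hF.le)
  have hlt : r ^ j < r ^ n := by
    rw [← hj, ← hn]
    exact lt_of_le_of_ne (Subgroup.card_le_of_le hF.le) fun h =>
      hF.ne (Subgroup.eq_of_le_of_card_ge hF.le h.ge)
  have hjn : j < n := (Nat.pow_lt_pow_iff_right hrf.out.one_lt).1 hlt
  by_contra hlt3
  rw [hn] at hlt3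
  push Not at hlt3
  have hn3 : n < 3 := (Nat.pow_lt_pow_iff_right hrf.out.one_lt).1 hlt3
  have hcong : r ^ n ≡ r ^ j [MOD p] := hn ▸ hj ▸ fixed_congr hyp (normalizer_le_normalizer_om hRc hy)
  have hdvd : p ∣ r ^ n - r ^ j := (Nat.modEq_iff_dvd' hlt.le).1 hcong.symm
  have h2 := hrf.out.two_le
  obtain ⟨-, hrp1⟩ := c.prime_facts hrf.out hrp hd
  have hnd : ∀ m : ℕ, 0 < m → m < p → ¬ p ∣ m := fun m h0 hm h => absurd (Nat.le_of_dvd h0 h) (by omega)
  interval_cases n <;> interval_cases j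
  · exact hnd (r - 1) (by omega) (by omega) (by simpa using hdvd)
  · have h : p ∣ (r - 1) * (r + 1) := by
      rw [show (r - 1) * (r + 1) = r ^ 2 - 1 by rw [mul_comm]; simpa using (Nat.sq_sub_sq r 1).symm]
      simpa using hdvd
    rcases hpf.out.dvd_mul.1 h with h | h
    · exact hnd (r - 1) (by omega) (by omega) h
    · exact hnd (r + 1) (by omega) (by omega) h
  · have h : p ∣ r * (r - 1) := by
      rw [Nat.mul_sub, mul_one, ← sq]; simpa using hdvd
    rcases hpf.out.dvd_mul.1 h with h | h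
    · exact hnd r (by omega) (by omega) h
    · exact hnd (r - 1) (by omega) (by omega) h

end Cfsg.Agent.PPrimeAbelian
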