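import Cfsg.Agent.Lib.Lead.PPrimeAbelian.Local
import Cfsg.Agent.Lib.OddLocal.KappaCover
import Cfsg.Agent.Lib.OddLocal.KappaPartner
import Cfsg.Agent.Lib.OddLocal.KappaCount
import Cfsg.Agent.Lib.OddLocal.UniquenessTheorem
import Cfsg.Agent.Lib.Perm.Carter
import Cfsg.Agent.S1355

/-!
Odd order: the local structure and the count.
-/

set_option autoImplicit false
set_option linter.style.haveILetI false

namespace Cfsg.Agent.PPrimeAbelian

open Cfsg
open Cfsg.Agent.Fusion (SylIn cj)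
open Cfsg.Agent.OddLocal

universe u

variable {G : Type u} [Group G] [Finite G] {p : ℕ} [hpf : Fact p.Prime]

theorem odd_rank (c : Crit p G) {r : ℕ} [Fact r.Prime] (hrp : r ≠ p) (hd : r ∣ Nat.card G)
    {R : Subgroup G} (hR : SylIn r R ⊤) : ¬ RankLE 2 ↥R := by
  intro h
  have hRc := c.sylow_comm hrp hR
  have h3 := c.om_card hrp hR hd
  have hle := h r Fact.out ((om r R).subgroupOf R) ⟨⟨fun a b => Subtype.ext (Subtype.ext
      (Subgroup.mem_centralizer_iff.1 (hRc b.1.2) a.1 a.1.2))⟩⟩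
    (fun a ha => Subtype.ext (by simpa using ((mem_om hRc).1 ha).2))
  rw [Nat.card_congr (Subgroup.subgroupOfEquivOfLe (om_le : om r R ≤ R)).toEquiv] at hle
  have hr2 := (Fact.out : r.Prime).two_le
  have : r ^ 2 < r ^ 3 := Nat.pow_lt_pow_right (by omega) (by norm_num)
  omega

theorem odd_sylow_unique (c : Crit p G) (hG : IsMinSimpleOddOrder G) {r : ℕ} [Fact r.Prime] (hrp : r ≠ p)
    (hd : r ∣ Nat.card G) {R : Subgroup G} (hR : SylIn r R ⊤) : InUniqueMaximal R := by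
  refine Uniq.uniqueness_theorem hG (fun h => ?_) (fun h => ?_) (Or.inl (odd_rank c hrp hd hR))
  · exact c.not_solvable (by
      haveI : Group.IsSolvable R := by haveI := hR.isPGroup.isNilpotent; infer_instance
      exact Group.isSolvable_of_surjective (f := R.subtype) (fun g => ⟨⟨g, h ▸ Subgroup.mem_top g⟩, rfl⟩))
  · exact odd_rank c hrp hd hR fun q hq A hA hA' => (h q hq A hA hA').trans
      (Nat.pow_le_pow_right hq.pos (by norm_num))

/-- A prime in `σ(M)` other than `p` brings all the other primes of `M`. -/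
theorem odd_sigma (c : Crit p G) (hG : IsMinSimpleOddOrder G) {M : Subgroup G} (hM : IsCoatom M)
    {r' r : ℕ} (hr' : r' ∈ sigma M) (hr'p : r' ≠ p) (hr : r.Prime) (hrM : r ∣ Nat.card M) (hrp : r ≠ p) :
    r ∈ sigma M := by
  haveI := Fact.mk hr
  haveI := Fact.mk hr'.1
  obtain ⟨H, hH, hHi⟩ := Perm.exists_hall_complement (c.sub_solvable hM.1) hpf.out
  set H' := H.map M.subtype
  have hH'M : H' ≤ M := Subgroup.map_subtype_le _
  have hH'co : (Nat.card H').Coprime p := by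
    rw [Subgroup.card_map_of_injective M.subtype_injective]
    exact (hpf.out.coprime_iff_not_dvd.2 hH).symm
  have hrel : H'.relIndex M = p ^ (Nat.card M).factorization p := by
    rw [← hHi, Subgroup.relIndex, Subgroup.subgroupOf, Subgroup.comap_map_eq_self_of_injective M.subtype_injective]
  have hdiv : ∀ {q : ℕ}, q.Prime → q ≠ p → q ∣ Nat.card M → q ∣ Nat.card H' := fun {q} hq hqp hd => by
    have h := Subgroup.relIndex_mul_relIndex ⊥ H' M bot_le hH'M
    rw [Subgroup.relIndex_bot_left, Subgroup.relIndex_bot_left, hrel] at h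
    rw [← h] at hd
    exact ((Nat.Prime.dvd_mul hq).1 hd).resolve_right fun h' =>
      hqp ((Nat.prime_dvd_prime_iff_eq hq hpf.out).1 (hq.dvd_of_dvd_pow h'))
  obtain ⟨R', hR'⟩ := Fusion.exists_sylIn (p := r') H'
  have hR'M : SylIn r' R' M := ⟨hR'.le.trans hH'M, hR'.isPGroup, fun h => by
    rw [← Subgroup.relIndex_mul_relIndex R' H' M hR'.le hH'M, hrel] at h
    exact ((Nat.Prime.dvd_mul hr'.1).1 h).elim hR'.not_dvd fun h' =>
      hr'p ((Nat.prime_dvd_prime_iff_eq hr'.1 hpf.out).1 (hr'.1.dvd_of_dvd_pow h'))⟩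
  have hR'G : SylIn r' R' ⊤ := ⟨le_top, hR'.isPGroup, fun h => by
    rw [← Subgroup.relIndex_mul_relIndex R' M ⊤ hR'M.le le_top, Subgroup.relIndex_top_right] at h
    rcases (Nat.Prime.dvd_mul hr'.1).1 h with h | h
    · exact hR'M.not_dvd h
    · have hall := (Sig.sigmaCore_hall hG hM).2.2 r' hr'.1 hr'
      exact hall (h.trans (Subgroup.index_dvd_of_le (Subgroup.map_subtype_le _)))⟩
  have hu' := odd_sylow_unique c hG hr'p (hr'.2.1.trans (Subgroup.card_subgroup_dvd_card M)) hR'G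
  have hMu : ∀ X : Subgroup G, R' ≤ X → X ≠ ⊤ → X ≤ M := fun X hX hXt => by
    obtain ⟨N, hN, hXN⟩ := (eq_top_or_exists_le_coatom X).resolve_left hXt
    exact hXN.trans (hu'.unique ⟨hN, hX.trans hXN⟩ ⟨hM, hR'M.le⟩).le
  obtain ⟨x, hx⟩ := exists_prime_orderOf_dvd_card' r (hdiv hr hrp hrM)
  have hx1 : (x : G) ≠ 1 := fun h => by
    rw [← Subgroup.orderOf_coe, h, orderOf_one] at hx
    exact hr.ne_one hx.symm
  have hCx : Subgroup.centralizer ({(x : G)} : Set G) ≤ M := hMu _ (fun y hy =>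
    Subgroup.mem_centralizer_singleton_iff.2 (c.comm hH'co (hR'.le hy) x.2)) (c.centralizer_ne_top hx1)
  obtain ⟨R, hR, hxR⟩ := Fusion.exists_sylIn_ge (p := r)
    (Solv.isPGroup_zpowers (u := (x : G)) (k := 1) (by rw [Subgroup.orderOf_coe, hx, pow_one])) le_top
  have hRM : R ≤ M := fun y hy => hCx (Subgroup.mem_centralizer_singleton_iff.2
    (Subgroup.mem_centralizer_iff.1 (c.sylow_comm hrp hR (hxR (Subgroup.mem_zpowers _))) y hy))
  have hdG := hrM.trans (Subgroup.card_subgroup_dvd_card M)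
  have hu := odd_sylow_unique c hG hrp hdG hR
  obtain ⟨S, hS⟩ := (hR.mono hRM le_top).exists_sylow_subgroupOf
  refine ⟨hr, hrM, S, ?_⟩
  rw [hS, Subgroup.map_subgroupOf_eq_of_le hRM]
  have hRb := sylow_ne_bot hR hdG
  obtain ⟨N, hN, hXN⟩ := (eq_top_or_exists_le_coatom _).resolve_left
    (c.normalizer_ne_top hRb (fun h => hM.1 (top_le_iff.1 (h ▸ hRM))))
  exact hXN.trans (hu.unique ⟨hN, Subgroup.le_normalizer.trans hXN⟩ ⟨hM, hRM⟩).le

theorem odd_sigma_ne (hG : IsMinSimpleOddOrder G) {M : Subgroup G} (hM : IsCoatom M) :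
    ∃ q, q ∈ sigma M := by
  obtain ⟨q, hq, hqd⟩ := Nat.exists_prime_and_dvd
    (fun h => FitParts.sigmaCore_ne_bot hG hM (Subgroup.card_eq_one.1 h))
  exact ⟨q, (Sig.sigmaCore_hall hG hM).1.2.1 q hq hqd⟩

/-- In a frame, `U = 1`. -/
theorem odd_frame_U (c : Crit p G) (hG : IsMinSimpleOddOrder G) {M K E U : Subgroup G} (hM : IsCoatom M)
    (hK : IsPiHallOf (kappa M) K M) (hK1 : K ≠ ⊥) (hF : Kappa.Frame M K E U) : U = ⊥ := by
  obtain ⟨q, hq, hqd⟩ := Nat.exists_prime_and_dvd (fun h => hK1 (Subgroup.card_eq_one.1 h))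
  have hqκ := hK.2.1 q hq hqd
  by_cases hs : ∃ r' ∈ sigma M, r' ≠ p
  · obtain ⟨r', hr', hr'p⟩ := hs
    have hqp : q = p := by
      by_contra h
      exact hqκ.2.2.1 (odd_sigma c hG hM hr' hr'p hq hqκ.2.1 h)
    by_contra hU
    obtain ⟨t, ht, htd⟩ := Nat.exists_prime_and_dvd (fun h => hU (Subgroup.card_eq_one.1 h))
    obtain ⟨-, htκ, htσ⟩ := hF.hall.2.1 t ht htd
    have htp : t ≠ p := fun h => htκ (h ▸ hqp ▸ hqκ)
    exact htσ (odd_sigma c hG hM hr' hr'p ht (htd.trans (Subgroup.card_dvd_of_le hF.hall.1)) htp)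
  push Not at hs
  obtain ⟨t, ht⟩ := odd_sigma_ne hG hM
  have hpσ : p ∈ sigma M := hs t ht ▸ ht
  have hUco : (Nat.card U).Coprime p := (hpf.out.coprime_iff_not_dvd.2 fun h =>
    (hF.hall.2.1 p hpf.out h).2.2 hpσ).symm
  have hKco : (Nat.card K).Coprime p := (hpf.out.coprime_iff_not_dvd.2 fun h =>
    (hK.2.1 p hpf.out h).2.2.1 hpσ).symm
  have hKU : K ≤ Subgroup.normalizer (U : Set G) := hF.le.trans hF.normal
  have hco : (Nat.card (U ⊔ K : Subgroup G)).Coprime p :=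
    (Nat.Coprime.mul_left hUco hKco).coprime_dvd_left (Dvd.intro _ (Solv.card_sup_mul_card_inf' U K hKU))
  obtain ⟨k, hk, hk1⟩ : ∃ k ∈ K, k ≠ 1 := by
    by_contra hno
    push Not at hno
    exact hK1 ((Subgroup.eq_bot_iff_forall K).2 hno)
  exact (Subgroup.eq_bot_iff_forall U).2 fun u hu =>
    hF.fpf k hk hk1 u hu (c.comm hco (Subgroup.mem_sup_left hu) (Subgroup.mem_sup_right hk))

/-- All `κ` are empty. -/
theorem odd_kappa (c : Crit p G) (hG : IsMinSimpleOddOrder G) {M : Subgroup G} (hM : IsCoatom M) :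
    kappa M = ∅ := by
  by_contra hne
  obtain ⟨q, hq⟩ := Set.nonempty_iff_ne_empty.2 hne
  obtain ⟨K, hK, -⟩ := Kappa.exists_hall_ge hG hM.1 (kappa M) (Y := ⊥) bot_le (fun r hr h => by
    rw [Subgroup.card_bot] at h; exact absurd h hr.not_dvd_one)
  have hK1 : K ≠ ⊥ := fun h => hK.2.2 q hq.1 hq (by rw [h, Subgroup.relIndex_bot_left]; exact hq.2.1)
  obtain ⟨E, U, hF⟩ := Kappa.exists_frame hG hM hK hK1
  obtain rfl := odd_frame_U c hG hM hK hK1 hF
  obtain ⟨t, htp, htd⟩ := Nat.exists_prime_and_dvd (fun h => hK1 (Subgroup.card_eq_one.1 h))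
  haveI := Fact.mk htp
  obtain ⟨x, hxo⟩ := exists_prime_orderOf_dvd_card' t htd
  have hxo' : orderOf (x : G) = t := by rw [Subgroup.orderOf_coe, hxo]
  have hx1 : (x : G) ≠ 1 := fun h => by rw [h, orderOf_one] at hxo'; exact htp.ne_one hxo'.symm
  obtain ⟨A, hA, hNA⟩ := (eq_top_or_exists_le_coatom _).resolve_left
    (c.normalizer_ne_top (H := Subgroup.zpowers (x : G)) (fun h => hx1 (Subgroup.zpowers_eq_bot.1 h))
      (fun h => hM.1 (top_le_iff.1 (h ▸ Subgroup.zpowers_le.2 (hK.1 x.2)))))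
  obtain ⟨KA, EA, UA, hKA, hKA1, hFA, hne, htA, -, -, -, hMA, hZ⟩ :=
    Kappa.exists_partner hG hM hK hF x.2 hxo' hA hNA
  obtain rfl := odd_frame_U c hG hA hKA hKA1 hFA
  set Z := K ⊔ (sigmaCore M ⊓ Subgroup.centralizer (K : Set G))
  have hnM : Kappa.Node Z M := ⟨hM, K, E, hK, hK1, hF, rfl⟩
  have hnA : Kappa.Node Z A := ⟨hA, KA, EA, hKA, hKA1, hFA, hZ.symm⟩
  refine Kappa.no_two_nodes hG hnM hnA (fun h => hne 1 (by rw [Fusion.cj_one, h])) fun r hr hrd => ?_
  have h1 := Solv.card_sup_mul_card_inf' K (sigmaCore M ⊓ Subgroup.centralizer (K : Set G))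
    (inf_le_right.trans (Subgroup.centralizer_le_normalizer _))
  rcases (Nat.Prime.dvd_mul hr).1 (h1 ▸ hrd.mul_right _ :
      r ∣ Nat.card K * Nat.card ↥(sigmaCore M ⊓ Subgroup.centralizer (K : Set G))) with h | h
  swap
  · exact ⟨M, hnM, (Sig.sigmaCore_hall hG hM).1.2.1 r hr (h.trans (Subgroup.card_dvd_of_le inf_le_left))⟩
  refine ⟨A, hnA, ?_⟩
  have hrκ := hK.2.1 r hr h
  have htκ := hK.2.1 t htp htd
  by_cases hs : ∃ r' ∈ sigma M, r' ≠ p
  · obtain ⟨r', hr', hr'p⟩ := hs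
    have h2 : r = p := by
      by_contra h2
      exact hrκ.2.2.1 (odd_sigma c hG hM hr' hr'p hr hrκ.2.1 h2)
    have h3 : t = p := by
      by_contra h3
      exact htκ.2.2.1 (odd_sigma c hG hM hr' hr'p htp htκ.2.1 h3)
    rwa [h2, ← h3]
  · push Not at hs
    obtain ⟨s, hsσ⟩ := odd_sigma_ne hG hM
    have hpσ : p ∈ sigma M := hs s hsσ ▸ hsσ
    refine odd_sigma c hG hA htA (fun e => htκ.2.2.1 (e ▸ hpσ)) hr ?_ (fun e => hrκ.2.2.1 (e ▸ hpσ))
    exact h.trans (Subgroup.card_dvd_of_le (le_trans le_sup_left (hMA.ge.trans inf_le_right)))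

theorem odd_false (c : Crit p G) (hG : IsMinSimpleOddOrder G) : False := by
  classical
  set S := (Nat.card G).primeFactors.erase p with hSdef
  let T : ℕ → Set G := fun q =>
    if h : ∃ M : Subgroup G, IsCoatom M ∧ q ∈ sigma M then
      tildeOf h.choose ((sigmaCore h.choose : Set G) \ {1}) else ∅
  have hT : ∀ q : ℕ, q.Prime → ∀ m : ℕ,
      (∀ M : Subgroup G, IsCoatom M → q ∈ sigma M → m ≤ (sigmaCore M).relIndex M) →
      m * (T q).ncard ≤ Nat.card G := by
    intro q hq m hm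
    show m * (dite _ _ _ : Set G).ncard ≤ _
    split
    · rename_i h
      obtain ⟨hM, hqM⟩ := h.choose_spec
      rw [Support.card_tilde hG hM]
      calc m * ((Nat.card (sigmaCore h.choose) - 1) * h.choose.index)
          ≤ (sigmaCore h.choose).relIndex h.choose * (Nat.card (sigmaCore h.choose) * h.choose.index) :=
            Nat.mul_le_mul (hm _ hM hqM) (Nat.mul_le_mul_right _ (Nat.sub_le _ _))
        _ = Nat.card G := by
          rw [← mul_assoc]
          have h2 := Subgroup.relIndex_mul_relIndex ⊥ (sigmaCore h.choose) h.choose bot_le (Subgroup.map_subtype_le _)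
          rw [Subgroup.relIndex_bot_left, Subgroup.relIndex_bot_left] at h2
          rw [mul_comm (_ : ℕ) (Nat.card (sigmaCore h.choose)), h2, Subgroup.card_mul_index]
    · simp
  have hlt : ∀ M : Subgroup G, IsCoatom M → (sigmaCore M).relIndex M ≠ 1 := fun M hM h => by
    obtain ⟨-, -, h2, h3, -⟩ := S1355.result hG M hM
    exact h3.not_ge ((Subgroup.relIndex_eq_one.1 h).trans h2)
  have hodd : ∀ M : Subgroup G, Odd ((sigmaCore M).relIndex M) := fun M =>
    Odd.of_dvd_nat hG.1 ((Subgroup.relIndex_dvd_card _ _).trans (Subgroup.card_subgroup_dvd_card M))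
  have hp3 : 3 * (T p).ncard ≤ Nat.card G := hT p hpf.out 3 fun M hM _ => by
    obtain ⟨k, hk⟩ := hodd M
    have := hlt M hM
    omega
  have hr : ∀ r ∈ S, p * (T r).ncard ≤ Nat.card G := fun r hrS => by
    obtain ⟨hrp, hr'⟩ := Finset.mem_erase.1 hrS
    refine hT r (Nat.mem_primeFactors.1 hr').1 p fun M hM hrM => ?_
    obtain ⟨q, hq, hqd⟩ := Nat.exists_prime_and_dvd (hlt M hM)
    have hqp : q = p := by
      by_contra hne
      have hqM : q ∣ Nat.card M := hqd.trans (Subgroup.relIndex_dvd_card _ _)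
      exact (Sig.sigmaCore_hall hG hM).1.2.2 q hq (odd_sigma c hG hM hrM hrp hq hqM hne) hqd
    exact hqp ▸ Nat.le_of_dvd (hodd M).pos hqd
  have hκ : ∀ M : Subgroup G, IsCoatom M → kappa M = ∅ := fun M hM => odd_kappa c hG hM
  have hcov : (Set.univ : Set G) \ {1} ⊆ T p ∪ ⋃ r ∈ S, T r := by
    rintro g ⟨-, hg : g ≠ 1⟩
    obtain ⟨N, hN, hgN⟩ : ∃ N : Subgroup G, IsCoatom N ∧ g ∈ tildeOf N ((sigmaCore N : Set G) \ {1}) := by
      rcases Kappa.cover hG hg with h | ⟨M, x, x', hM, -, -, -, hx'1, -, -, hk⟩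
      · exact h
      · obtain ⟨q, hq, hqd⟩ := Nat.exists_prime_and_dvd fun h' => hx'1 (orderOf_eq_one_iff.1 h')
        have := hk q hq hqd
        rw [hκ M hM] at this
        exact this.elim
    obtain ⟨q, hq⟩ := odd_sigma_ne hG hN
    have hgT : g ∈ T q := by
      have hex : ∃ M : Subgroup G, IsCoatom M ∧ q ∈ sigma M := ⟨N, hN, hq⟩
      show g ∈ dite _ _ _
      rw [dif_pos hex]
      obtain ⟨hM, hqM⟩ := hex.choose_spec
      haveI := Fact.mk hq.1
      obtain ⟨k, hk⟩ := Disjoint.conjugate_of_sigma hG hM hN hqM hq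
      rw [hk] at hgN
      exact Kappa.tilde_cj hG hM k hgN
    by_cases hqp : q = p
    · exact Or.inl (hqp ▸ hgT)
    · exact Or.inr (Set.mem_biUnion (x := q) (Finset.mem_erase.2 ⟨hqp, Nat.mem_primeFactors.2
        ⟨hq.1, hq.2.1.trans (Subgroup.card_subgroup_dvd_card N), Nat.card_pos.ne'⟩⟩) hgT)
  have h1 : Nat.card G - 1 ≤ (T p).ncard + ∑ r ∈ S, (T r).ncard := by
    refine le_trans ?_ ((Set.ncard_le_ncard hcov).trans ((Set.ncard_union_le _ _).trans
      (Nat.add_le_add_left (Finset.set_ncard_biUnion_le S T) _)))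
    rw [Set.ncard_sdiff_singleton_of_mem (Set.mem_univ _), Set.ncard_univ]
  have h2 : p * ∑ r ∈ S, (T r).ncard ≤ S.card * Nat.card G := by
    rw [Finset.mul_sum]
    exact (Finset.sum_le_sum hr).trans (by simp)
  have hk : 2 * S.card ≤ p - 1 := by
    rw [hSdef]
    have hS : ∀ r ∈ S, r.Prime ∧ r ∣ p - 1 := fun r hr => by
      obtain ⟨h1, h2⟩ := Finset.mem_erase.1 hr
      exact ⟨(Nat.mem_primeFactors.1 h2).1, (c.prime_facts (Nat.mem_primeFactors.1 h2).1 h1 (Nat.mem_primeFactors.1 h2).2.1).1⟩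
    have h1 : ∏ r ∈ S, r ∣ p - 1 :=
      Finset.prod_primes_dvd _ (fun r hr => (hS r hr).1.prime) fun r hr => (hS r hr).2
    have h2 : 2 ^ S.card ≤ ∏ r ∈ S, r :=
      Finset.pow_card_le_prod S _ 2 fun r hr => (hS r hr).1.two_le
    have h3 : 2 * S.card ≤ 2 ^ S.card := by
      rcases Nat.eq_zero_or_pos S.card with h | h
      · simp [h]
      · have := (Nat.lt_two_pow_self : S.card - 1 < 2 ^ (S.card - 1))
        rw [show S.card = (S.card - 1) + 1 by omega, pow_succ]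
        omega
    have := c.five_le
    exact h3.trans (h2.trans (Nat.le_of_dvd (by omega) h1))
  have h5 := c.five_le
  have hpd : p ∣ Nat.card G := by
    by_contra hno
    exact c.ms.2.1 ⟨⟨fun a b => c.comm (H := ⊤) (by
      rw [Subgroup.card_top]; exact (hpf.out.coprime_iff_not_dvd.2 hno).symm) (Subgroup.mem_top a) (Subgroup.mem_top b)⟩⟩
  have hbig : 7 ≤ Nat.card G := by
    by_contra hlt7
    refine c.not_solvable (Char.isSolvable_of_two_primes Nat.prime_two hpf.out _ rfl fun q hq hqd => ?_)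
    by_contra hne
    push Not at hne
    have hdd := Nat.Coprime.mul_dvd_of_dvd_of_dvd ((Nat.coprime_primes hq hpf.out).2 hne.2) hqd hpd
    have := Nat.le_of_dvd Nat.card_pos hdd
    have := hq.two_le
    nlinarith
  set a := (T p).ncard
  set b := ∑ r ∈ S, (T r).ncard
  obtain ⟨g, hg⟩ : ∃ g, Nat.card G = g + 1 := ⟨Nat.card G - 1, by have := Nat.card_pos (α := G); omega⟩
  rw [hg] at h1 h2 hp3 hbig
  rw [Nat.add_sub_cancel] at h1
  have e1 := Nat.mul_le_mul_left (3 * p) h1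
  have e2 := Nat.mul_le_mul_left p hp3
  have hk' : 2 * S.card + 1 ≤ p := by omega
  have e3 := Nat.mul_le_mul_right (g + 1) hk'
  nlinarith

end Cfsg.Agent.PPrimeAbelian
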